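import Groth.Agent.SeesawSub.Glue
import Groth.Agent.H23.EqvUnr
import Groth.Agent.H23.KLBasic

/-!
# Existence of K(L)
-/

set_option autoImplicit false
set_option backward.isDefEq.respectTransparency false
set_option backward.isDefEq.respectTransparency.types false
set_option linter.style.haveILetI false
set_option maxHeartbeats 1000000

universe u

open CategoryTheory CategoryTheory.Limits MonoidalCategory CartesianMonoidalCategory MonObj AlgebraicGeometry

noncomputable section

namespace Groth.Agent.ThetaLib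

open Groth.Agent.H23
open scoped Groth.Agent.H23.PicMul

/-- The closed subscheme `K(L)` of an abelian variety. -/
theorem exists_isKL {k : Type u} [Field k] (A : Over (Spec (CommRingCat.of k))) [GrpObj A] [IsProper A.hom]
    [GeometricallyIntegral A.hom] (L : A.left.Modules) (hL : PicF.IsInvertible L) :
    ∃ (K : Over (Spec (CommRingCat.of k))) (i : K ⟶ A), ThetaGrp.IsKL A L i := by
  haveI : IsProper (snd A A).left := inferInstanceAs (IsProper (pullback.snd A.hom A.hom))
  haveI : Flat (snd A A).left := inferInstanceAs (Flat (pullback.snd A.hom A.hom))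
  haveI : GeometricallyIntegral (snd A A).left :=
    inferInstanceAs (GeometricallyIntegral (pullback.snd A.hom A.hom))
  haveI : IsLocallyNoetherian A.left := LocallyOfFiniteType.isLocallyNoetherian A.hom
  obtain ⟨D, hD, e⟩ := PicInv.exists_inverse (PicClLib.isInvertible_pullback (fst A A).left hL)
  have hu : PicF.pullCl (fst A A).left (PicF.cl L) * PicF.cl D = 1 := by
    have e' := (PicGrp.cl_eq_cl_iff _ _).2 e
    rw [PicMul.cl_tensor] at e'
    exact e'
  let E := CohB1.tensorMod ((Scheme.Modules.pullback μ[A].left).obj L) D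
  have hE : PicF.IsInvertible E := PicMul.isInvertible_tensor (PicClLib.isInvertible_pullback _ hL) hD
  obtain ⟨Z, gi, hgi, hZ⟩ := SeesawSub.exists_seesawSubscheme (snd A A).left E hE
  refine ⟨Over.mk (gi ≫ A.hom), Over.homMk gi rfl, hgi, fun T z => ?_⟩
  have key : ThetaGrp.IsMumfordTriv A L z ↔ SeesawSub.RelTriv (snd A A).left E z.left := by
    rw [KLBasic.mumford_iff hL z, SeesawSub.relTriv_iff]
    let a := pullback.fst (snd A A).left z.left
    let b := pullback.snd (snd A A).left z.left
    let q := (EqvUnr.isPullback_whiskerLeft A z).isoPullback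
    have ha : q.hom ≫ a = (A ◁ z).left := (EqvUnr.isPullback_whiskerLeft A z).isoPullback_hom_fst
    have hb : q.hom ≫ b = (snd A T).left := (EqvUnr.isPullback_whiskerLeft A z).isoPullback_hom_snd
    have hinj : ∀ {c d : PicF.Cl (pullback (snd A A).left z.left)},
        PicF.pullCl q.hom c = PicF.pullCl q.hom d → c = d := fun {c d} h => by
      have h' := congrArg (PicF.pullCl q.inv) h
      rwa [PicClLib.pullCl_comp, PicClLib.pullCl_comp, Iso.inv_hom_id, PicClLib.pullCl_id,
        PicClLib.pullCl_id] at h'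
    have hE' : PicF.pullCl (A ◁ z).left (PicF.cl E) * PicF.pullCl (fst A T).left (PicF.cl L) =
        PicF.pullCl (ThetaGrp.transl A z ≫ fst A T).left (PicF.cl L) := by
      have e1 : PicF.pullCl (fst A T).left (PicF.cl L) =
          PicF.pullCl (A ◁ z).left (PicF.pullCl (fst A A).left (PicF.cl L)) := by
        rw [PicClLib.pullCl_comp, ← Over.comp_left, whiskerLeft_fst]
      rw [e1, ← PicMul.pullCl_mul, PicMul.cl_tensor, _root_.mul_assoc, mul_comm (PicF.cl D), hu, _root_.mul_one,
        KLBasic.transl_fst_eq, Over.comp_left, ← PicClLib.pullCl_comp]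
      rfl
    have hf : IsUnit (PicF.pullCl (fst A T).left (PicF.cl L)) :=
      PicMul.isUnit_cl (PicClLib.isInvertible_pullback _ hL)
    constructor
    · rintro ⟨_, ⟨M, rfl, hM⟩, h⟩
      refine ⟨M, hM, (PicGrp.cl_eq_cl_iff _ _).1 (hinj ?_)⟩
      change PicF.pullCl q.hom (PicF.pullCl a (PicF.cl E)) = PicF.pullCl q.hom (PicF.pullCl b (PicF.cl M))
      rw [PicClLib.pullCl_comp, PicClLib.pullCl_comp, ha, hb]
      rw [KLBasic.Eq, ← hE', mul_comm] at h
      exact hf.mul_left_cancel h
    · rintro ⟨M, hM, h⟩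
      refine ⟨PicF.cl M, ⟨M, rfl, hM⟩, ?_⟩
      have h' : PicF.pullCl q.hom (PicF.pullCl a (PicF.cl E)) = PicF.pullCl q.hom (PicF.pullCl b (PicF.cl M)) :=
        congrArg (PicF.pullCl q.hom) ((PicGrp.cl_eq_cl_iff _ _).2 h)
      rw [PicClLib.pullCl_comp, PicClLib.pullCl_comp, ha, hb] at h'
      rw [KLBasic.Eq, ← hE', h', mul_comm]
  rw [key, ← hZ]
  refine ⟨fun ⟨u', h⟩ => ⟨Over.homMk u' ?_, Over.OverMorphism.ext h⟩, fun ⟨y, h⟩ => ⟨y.left, congrArg CommaMorphism.left h⟩⟩
  show u' ≫ gi ≫ A.hom = T.hom
  rw [← Category.assoc, h, Over.w z]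

end Groth.Agent.ThetaLib
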