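import Groth.Agent.ThetaLib.Points
import Groth.Agent.H23.KLBasic

/-!
# Translations with trivial Mumford bundle lift locally to the theta group
-/

set_option autoImplicit false
set_option backward.isDefEq.respectTransparency false
set_option backward.isDefEq.respectTransparency.types false
set_option linter.style.haveILetI false
set_option maxHeartbeats 1000000

universe u

open CategoryTheory CategoryTheory.Limits MonoidalCategory CartesianMonoidalCategory MonObj AlgebraicGeometry
open Pseudofunctor Bicategory TopologicalSpace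

noncomputable section

namespace Groth.Agent.ThetaLib

open ThetaGrp
open scoped Groth.Agent.H23.PicMul

variable {S : Scheme.{u}} {A : Over S} [GrpObj A] {L : A.left.Modules}

/-- The open subscheme as an object over the base. -/
abbrev sub {T : Over S} (U : T.left.Opens) : Over S := Over.mk (U.ι ≫ T.hom)

/-- The inclusion. -/
abbrev incl {T : Over S} (U : T.left.Opens) : sub U ⟶ T := Over.homMk U.ι rfl

theorem exists_open_trivial {T : Scheme.{u}} {c : PicF.Cl T} (hc : PicF.IsInvertibleCl c) (t : T) :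
    ∃ U : T.Opens, t ∈ U ∧ PicF.pullCl U.ι c = 1 := by
  obtain ⟨N, rfl, hN⟩ := hc
  obtain ⟨U, ht, ⟨e⟩⟩ := hN t
  exact ⟨U, ht, (PicGrp.cl_eq_cl_iff _ _).2
    ⟨((Scheme.Modules.restrictFunctorIsoPullback U.ι).app N).symm ≪≫ e⟩⟩

/-- A translation under which `L` is invariant lifts to the theta group. -/
theorem exists_of_cl {T : Over S} (x : T ⟶ A)
    (h : PicF.pullCl (transl A x ≫ fst A T).left (PicF.cl L) = PicF.pullCl (fst A T).left (PicF.cl L)) :
    ∃ β : thetaPts A L T, IsOverPt β x := by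
  obtain ⟨e⟩ := (PicGrp.cl_eq_cl_iff _ _).1 h
  let G : thetaObj A L T ⟶ basePr A L := mkH (transl A x ≫ fst A T).left e.inv
  haveI : IsIso (fib G) := inferInstanceAs (IsIso e.inv)
  obtain ⟨β, hβ, -⟩ := exists_of_hom x G rfl
  exact ⟨β, hβ⟩

theorem cl_of_overPt {T : Over S} {x : T ⟶ A} (β : thetaPts A L T) (h : IsOverPt β x) :
    PicF.pullCl (transl A x ≫ fst A T).left (PicF.cl L) = PicF.pullCl (fst A T).left (PicF.cl L) := by
  haveI := isIso_fib_of_iso β.1
  haveI : IsIso (fib (β.1.hom ≫ proj A L T)) := isIso_fib_comp _ _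
  have h1 := (PicGrp.cl_eq_cl_iff _ _).2 ⟨asIso (fib (β.1.hom ≫ proj A L T))⟩
  rw [Over.comp_left, ← h]
  exact h1.symm

theorem exists_local_lift (hL : PicF.IsInvertible L) {T : Over S} (x : T ⟶ A) (hx : IsMumfordTriv A L x)
    (t : T.left) : ∃ U : T.left.Opens, t ∈ U ∧ ∃ β : thetaPts A L (sub U), IsOverPt β (incl U ≫ x) := by
  obtain ⟨c, hc, h⟩ := (H23.KLBasic.mumford_iff hL x).1 hx
  obtain ⟨U, ht, hU⟩ := exists_open_trivial hc t
  refine ⟨U, ht, exists_of_cl _ ?_⟩
  have h' := congrArg (PicF.pullCl (A ◁ incl U).left) h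
  rw [H23.PicMul.pullCl_mul, PicClLib.pullCl_comp, PicClLib.pullCl_comp, PicClLib.pullCl_comp, ← Over.comp_left,
    ← Over.comp_left, ← Over.comp_left, whiskerLeft_fst, whiskerLeft_snd, ← reassoc_of% (whisker_transl A (incl U) x),
    whiskerLeft_fst, Over.comp_left _ _ _ (snd A (sub U)), ← PicClLib.pullCl_comp,
    show PicF.pullCl (incl U).left c = 1 from hU, H23.PicMul.pullCl_one, _root_.mul_one] at h'
  exact h'

theorem mumford_of_overPt (hL : PicF.IsInvertible L) {T : Over S} {x : T ⟶ A} (β : thetaPts A L T)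
    (h : IsOverPt β x) : IsMumfordTriv A L x := by
  refine (H23.KLBasic.mumford_iff hL x).2 ⟨1, ⟨_, rfl, PicLoc.isInvertible_structureModule _⟩, ?_⟩
  rw [H23.KLBasic.Eq, H23.PicMul.pullCl_one, _root_.mul_one]
  exact cl_of_overPt β h

end Groth.Agent.ThetaLib
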