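import Groth.Agent.ThetaLib.PtsGlue
import Groth.Agent.ThetaLib.Lifts
import Mathlib.AlgebraicGeometry.Sites.Representability
import Mathlib.AlgebraicGeometry.AffineSpace

/-!
# The theta group scheme
-/

set_option autoImplicit false
set_option backward.isDefEq.respectTransparency false
set_option backward.isDefEq.respectTransparency.types false
set_option linter.style.haveILetI false
set_option maxHeartbeats 1000000

universe u

open CategoryTheory CategoryTheory.Limits MonoidalCategory CartesianMonoidalCategory MonObj AlgebraicGeometry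
open Pseudofunctor Bicategory Opposite

noncomputable section

namespace Groth.Agent.ThetaLib

open ThetaGrp

theorem isUnit_of_basicOpen_eq_top {X : Scheme.{u}} (a : Γ(X, ⊤)) (h : X.basicOpen a = ⊤) : IsUnit a := by
  have h1 := X.toRingedSpace.isUnit_res_basicOpen a
  let e : Γ(X, X.basicOpen a) ⟶ Γ(X, ⊤) := X.presheaf.map (eqToHom h.symm).op
  have h2 := h1.map e.hom
  convert h2 using 1
  show a = (X.presheaf.map (homOfLE (X.basicOpen_le a)).op ≫ X.presheaf.map (eqToHom h.symm).op) a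
  rw [← Functor.map_comp]
  exact (ConcreteCategory.congr_hom (X.presheaf.map_id _) a).symm

variable {S : Scheme.{u}} {A : Over S} [GrpObj A] {L : A.left.Modules}

section Scal

variable (hL : PicF.IsInvertible L)

include hL in
theorem exists_scalPt {T : Over S} {a b : Γ(T.left, ⊤)} (hab : a * b = 1) (hba : b * a = 1) :
    ∃ β : thetaPts A L T, IsScal β a := by
  let P := thetaObj A L T
  let q := (snd A T).left.appTop
  have h : ∀ {a b : Γ(T.left, ⊤)}, a * b = 1 → smulH (q a) (𝟙 P) ≫ smulH (q b) (𝟙 P) = 𝟙 P := fun {a b} h => by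
    rw [smulH_comp, Category.id_comp, smulH_smulH, ← map_mul, mul_comm b a, h, map_one, smulH_one]
  refine ⟨⟨⟨smulH (q a) (𝟙 P), smulH (q b) (𝟙 P), h hab, h hba⟩, 1, ?_⟩, rfl⟩
  rw [smulH_base, transl_one]; rfl

/-- Multiplication by a unit. -/
def scalPt {T : Over S} (a : (Γ(T.left, ⊤))ˣ) : thetaPts A L T :=
  (exists_scalPt hL (Units.mul_inv a) (Units.inv_mul a)).choose

theorem isScal_scalPt {T : Over S} (a : (Γ(T.left, ⊤))ˣ) : IsScal (scalPt hL a) (a : Γ(T.left, ⊤)) :=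
  (exists_scalPt hL (Units.mul_inv a) (Units.inv_mul a)).choose_spec

omit hL in
theorem eq_of_isScal {T : Over S} {β δ : thetaPts A L T} {a : Γ(T.left, ⊤)} (h : IsScal β a) (h' : IsScal δ a) :
    β = δ :=
  Subtype.ext (Iso.ext (h.trans h'.symm))

omit hL in
theorem isOverPt_of_isScal {T : Over S} {β : thetaPts A L T} {a : Γ(T.left, ⊤)} (h : IsScal β a) : IsOverPt β 1 := by
  show β.1.hom.base = _
  rw [h, smulH_base, transl_one]; rfl

theorem bc_scalPt {T T' : Over S} (g : T' ⟶ T) (a : (Γ(T.left, ⊤))ˣ) :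
    bc g (scalPt hL a) = scalPt hL (Units.map g.left.appTop.hom.toMonoidHom a) :=
  eq_of_isScal (isScal_bc hL g (isScal_scalPt hL a)) (isScal_scalPt hL _)

theorem scalPt_injective (hA : GammaSnd A) {T : Over S} : Function.Injective (scalPt (A := A) hL (T := T)) :=
  fun a b h => Units.ext (isScal_unique hL hA (isScal_scalPt hL a) (h ▸ isScal_scalPt hL b))

include hL in
theorem exists_eq_scalPt (hA : GammaSnd A) {T : Over S} (β : thetaPts A L T) (hβ : IsOverPt β 1) :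
    ∃ a, β = scalPt hL a := by
  obtain ⟨a, ha⟩ := exists_isScal hL hA β hβ
  obtain ⟨b, hb⟩ := exists_isScal hL hA β⁻¹ (isOverPt_iff.2 (by rw [pt_inv, isOverPt_iff.1 hβ, inv_one]))
  have key : ∀ {gp δ : thetaPts A L T} {c d : Γ(T.left, ⊤)}, IsScal gp c → IsScal δ d → gp * δ = 1 → c * d = 1 :=
    fun {gp δ c d} hc hd hm => by
      refine isScal_unique hL hA (β := gp * δ) ?_ (by rw [hm]; exact isScal_one)
      show δ.1.hom ≫ gp.1.hom = _
      rw [hc, hd, smulH_comp, Category.id_comp, smulH_smulH, ← map_mul]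
  exact ⟨⟨a, b, key ha hb (mul_inv_cancel β), key hb ha (inv_mul_cancel β)⟩, eq_of_isScal ha (isScal_scalPt hL _)⟩

end Scal

/-- The points of the theta group over all schemes. -/
def fun' (A : Over S) [GrpObj A] (L : A.left.Modules) : Scheme.{u}ᵒᵖ ⥤ Type u where
  obj T := Σ t : T.unop ⟶ S, thetaPts A L (Over.mk t)
  map g := TypeCat.ofHom fun p => ⟨g.unop ≫ p.1, bc (Over.homMk g.unop rfl) p.2⟩
  map_id T := by
    refine ConcreteCategory.hom_ext _ _ fun p => ?_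
    obtain ⟨t, β⟩ := p
    show (⟨𝟙 _ ≫ t, bc (Over.homMk (𝟙 _) rfl) β⟩ : Σ t : T.unop ⟶ S, thetaPts A L (Over.mk t)) = ⟨t, β⟩
    have key : ∀ (t' : T.unop ⟶ S) (h : t' = t) (β' : thetaPts A L (Over.mk t')),
        β' = bc (Over.homMk (𝟙 _) (by show 𝟙 _ ≫ t = t'; simp [h]) : Over.mk t' ⟶ Over.mk t) β →
        (⟨t', β'⟩ : Σ t : T.unop ⟶ S, thetaPts A L (Over.mk t)) = ⟨t, β⟩ := by
      rintro _ rfl β' rfl
      rw [show (Over.homMk (𝟙 _) _ : Over.mk _ ⟶ Over.mk _) = 𝟙 _ from Over.OverMorphism.ext rfl, bc_id]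
    exact key _ (Category.id_comp t) _ rfl
  map_comp {X Y Z} g h := by
    refine ConcreteCategory.hom_ext _ _ fun p => ?_
    obtain ⟨t, β⟩ := p
    have key : ∀ (t' : Z.unop ⟶ S) (e : t' = h.unop ≫ g.unop ≫ t) (e' : (h.unop ≫ g.unop) ≫ t = t'),
        (⟨t', bc (Over.homMk (h.unop ≫ g.unop) e' : Over.mk t' ⟶ Over.mk t) β⟩ :
          Σ t : Z.unop ⟶ S, thetaPts A L (Over.mk t)) =
          ⟨h.unop ≫ g.unop ≫ t, bc (Over.homMk h.unop rfl) (bc (Over.homMk g.unop rfl : Over.mk (g.unop ≫ t) ⟶ Over.mk t) β)⟩ := by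
      rintro _ rfl e'
      rw [bc_comp]
      rfl
    exact key _ (Category.assoc _ _ _) rfl

theorem map_eq_iff {Z : Scheme.{u}} {t t' : Z ⟶ S} {β : thetaPts A L (Over.mk t)} {β' : thetaPts A L (Over.mk t')} :
    (⟨t, β⟩ : Σ t : Z ⟶ S, thetaPts A L (Over.mk t)) = ⟨t', β'⟩ ↔
      ∃ e : t = t', bc (Over.homMk (𝟙 Z) (by show 𝟙 Z ≫ t' = t; simp [e])) β' = β := by
  constructor
  · intro h
    obtain ⟨rfl, h⟩ := Sigma.mk.inj h
    refine ⟨rfl, ?_⟩
    rw [show (Over.homMk (𝟙 Z) _ : Over.mk t ⟶ Over.mk t) = 𝟙 _ from Over.OverMorphism.ext rfl, bc_id]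
    exact (eq_of_heq h).symm
  · rintro ⟨rfl, h⟩
    rw [show (Over.homMk (𝟙 Z) _ : Over.mk t ⟶ Over.mk t) = 𝟙 _ from Over.OverMorphism.ext rfl, bc_id] at h
    rw [h]

theorem map_eq_map {W : Scheme.{u}} {T T' : Scheme.{u}} {a : W ⟶ T} {a' : W ⟶ T'} {t : T ⟶ S} {t' : T' ⟶ S}
    {β : thetaPts A L (Over.mk t)} {β' : thetaPts A L (Over.mk t')} :
    (fun' A L).map a.op ⟨t, β⟩ = (fun' A L).map a'.op ⟨t', β'⟩ ↔
      ∃ e : a ≫ t = a' ≫ t', bc (Over.homMk a rfl : Over.mk (a ≫ t) ⟶ Over.mk t) β =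
        bc (Over.homMk a' e.symm : Over.mk (a ≫ t) ⟶ Over.mk t') β' := by
  show (⟨a ≫ t, bc (Over.homMk a rfl) β⟩ : Σ t : W ⟶ S, thetaPts A L (Over.mk t)) =
    ⟨a' ≫ t', bc (Over.homMk a' rfl) β'⟩ ↔ _
  rw [map_eq_iff]
  refine exists_congr fun e => ?_
  rw [bc_comp]
  have he : ∀ (m : Over.mk (a ≫ t) ⟶ Over.mk t'), m.left = a' → bc m β' = bc (Over.homMk a' e.symm) β' :=
    fun m hm => by rw [show m = Over.homMk a' e.symm from Over.OverMorphism.ext hm]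
  erw [he _ (Category.id_comp a')]
  exact ⟨fun h => h.symm, fun h => h.symm⟩

theorem isSheaf_fun' : Presheaf.IsSheaf Scheme.zariskiTopology (fun' A L) := by
  rw [isSheaf_iff_isSheaf_of_type, Precoverage.isSheaf_toGrothendieck_iff_of_isStableUnderBaseChange]
  rintro Y R hR
  obtain ⟨(𝒰 : Scheme.OpenCover Y), rfl⟩ := Scheme.exists_cover_of_mem_pretopology hR
  rw [Presieve.isSheafFor_arrows_iff]
  intro p hp
  -- the structure map
  choose tp bp hpe using fun i => show ∃ (t : 𝒰.X i ⟶ S) (β : thetaPts A L (Over.mk t)), p i = ⟨t, β⟩ from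
    ⟨(p i).1, (p i).2, rfl⟩
  have hcomp : ∀ i k (W : Scheme.{u}) (a : W ⟶ 𝒰.X i) (a' : W ⟶ 𝒰.X k), a ≫ 𝒰.f i = a' ≫ 𝒰.f k →
      ∃ e : a ≫ tp i = a' ≫ tp k, bc (Over.homMk a rfl : Over.mk (a ≫ tp i) ⟶ Over.mk (tp i)) (bp i) =
        bc (Over.homMk a' e.symm : Over.mk (a ≫ tp i) ⟶ Over.mk (tp k)) (bp k) := by
    intro i k W a a' h
    have := hp i k W a a' h
    rw [hpe, hpe] at this
    exact map_eq_map.1 this
  obtain ⟨t, ht⟩ : ∃ t : Y ⟶ S, ∀ i, 𝒰.f i ≫ t = tp i :=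
    ⟨𝒰.glueMorphisms tp fun i k => (hcomp i k _ _ _ pullback.condition).1, fun i => 𝒰.ι_glueMorphisms _ _ i⟩
  let j : ∀ i, Over.mk (tp i) ⟶ Over.mk t := fun i => Over.homMk (𝒰.f i) (ht i)
  haveI : ∀ i, IsOpenImmersion (j i).left := fun i => inferInstanceAs (IsOpenImmersion (𝒰.f i))
  let jy : ∀ y : Y, Over.mk (tp (𝒰.idx y)) ⟶ Over.mk t := fun y => j (𝒰.idx y)
  haveI : ∀ y, IsOpenImmersion (jy y).left := fun y => inferInstanceAs (IsOpenImmersion (j (𝒰.idx y)).left)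
  have hcov : ∀ y : (Over.mk t).left, ∃ z, y ∈ Set.range (jy z).left := fun y => ⟨y, 𝒰.covers y⟩
  have hpts : ∀ i k (W : Over S) (a : W ⟶ Over.mk (tp i)) (a' : W ⟶ Over.mk (tp k)), a ≫ j i = a' ≫ j k →
      bc a (bp i) = bc a' (bp k) := fun i k W a a' h => by
    obtain ⟨e, he⟩ := hcomp i k W.left a.left a'.left (congrArg CommaMorphism.left h)
    let m : W ⟶ Over.mk (a.left ≫ tp i) := Over.homMk (𝟙 _) (by
      show 𝟙 _ ≫ a.left ≫ tp i = W.hom
      rw [Category.id_comp]; exact Over.w a)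
    have h1 := congrArg (bc m) he
    rw [bc_comp, bc_comp] at h1
    convert h1 using 3 <;> exact Over.OverMorphism.ext (Category.id_comp _).symm
  obtain ⟨β₀, hβy⟩ := pts_glue jy hcov (fun y => bp (𝒰.idx y)) fun y z W a a' h => hpts _ _ W a a' h
  have hβ₀ : ∀ i, bc (j i) β₀ = bp i := fun i => by
    let Xi : Scheme.{u} := 𝒰.X i
    let Wo : Xi → Over S := fun x =>
      Over.mk (pullback.fst (𝒰.f i) (𝒰.f (𝒰.idx (𝒰.f i x))) ≫ tp i)
    let a : ∀ x, Wo x ⟶ Over.mk (tp i) := fun x => Over.homMk (pullback.fst _ _) rfl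
    haveI : ∀ x, IsOpenImmersion (a x).left := fun x =>
      inferInstanceAs (IsOpenImmersion (pullback.fst (𝒰.f i) (𝒰.f (𝒰.idx (𝒰.f i x)))))
    refine pts_ext a (fun x => ?_) fun x => ?_
    · obtain ⟨w, hw, -⟩ := Scheme.Pullback.exists_preimage_pullback (f := 𝒰.f i) (g := 𝒰.f (𝒰.idx (𝒰.f i x))) x
        (𝒰.covers (𝒰.f i x)).choose (𝒰.covers (𝒰.f i x)).choose_spec.symm
      exact ⟨x, w, hw⟩
    · let a' : Wo x ⟶ Over.mk (tp (𝒰.idx (𝒰.f i x))) := Over.homMk (pullback.snd _ _) (by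
        show pullback.snd _ _ ≫ tp _ = pullback.fst _ _ ≫ tp i
        rw [← ht, ← ht, ← Category.assoc, ← pullback.condition, Category.assoc])
      have h : a x ≫ j i = a' ≫ j (𝒰.idx (𝒰.f i x)) := Over.OverMorphism.ext pullback.condition
      rw [hpts i _ (Wo x) (a x) a' h, ← hβy, bc_comp, bc_comp, h]
  refine ⟨⟨t, β₀⟩, fun i => ?_, ?_⟩
  · rw [hpe]
    show (⟨𝒰.f i ≫ t, bc (Over.homMk (𝒰.f i) rfl) β₀⟩ : Σ t : 𝒰.X i ⟶ S, thetaPts A L (Over.mk t)) = ⟨tp i, bp i⟩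
    rw [map_eq_iff]
    refine ⟨ht i, ?_⟩
    rw [← hβ₀ i, bc_comp]
    congr 2
  · rintro ⟨t', β'⟩ h'
    have ht' : t' = t := 𝒰.hom_ext _ _ fun i => by
      have := congrArg Sigma.fst (h' i)
      rw [hpe] at this
      exact this.trans (ht i).symm
    subst ht'
    rw [pts_ext jy hcov (β := β') (δ := β₀) fun y => ?_]
    let i := 𝒰.idx y
    show bc (j i) β' = bc (j i) β₀
    have := h' i
    rw [hpe] at this
    obtain ⟨e, he⟩ := map_eq_iff.1 (show (⟨𝒰.f i ≫ t', bc (Over.homMk (𝒰.f i) rfl) β'⟩ :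
      Σ t : 𝒰.X i ⟶ S, thetaPts A L (Over.mk t)) = ⟨tp i, bp i⟩ from this)
    have h1 := congrArg (bc (Over.homMk (𝟙 _) (by show 𝟙 _ ≫ 𝒰.f i ≫ t' = tp i; simp [e]) :
      Over.mk (tp i) ⟶ Over.mk (𝒰.f i ≫ t'))) he
    rw [bc_comp, bc_comp] at h1
    rw [hβ₀ i]
    convert h1.symm using 1
    · congr 2
    · rw [show (_ ≫ _ : Over.mk (tp i) ⟶ Over.mk (tp i)) = 𝟙 _ from Over.OverMorphism.ext (Category.id_comp _),
        bc_id]

end Groth.Agent.ThetaLib
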