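import Groth.Agent.ThetaLib.Scalar
import Groth.Agent.ThetaLib.Lifts

/-!
# The commutator pairing of an invertible module with `K(L) = A` is trivial
-/

set_option autoImplicit false
set_option backward.isDefEq.respectTransparency false
set_option backward.isDefEq.respectTransparency.types false
set_option linter.style.haveILetI false
set_option maxHeartbeats 1000000

universe u

open CategoryTheory CategoryTheory.Limits MonoidalCategory CartesianMonoidalCategory MonObj AlgebraicGeometry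
open Pseudofunctor Bicategory TopologicalSpace
open scoped commutatorElement

noncomputable section

namespace Groth.Agent.ThetaLib

open ThetaGrp

variable {S : Scheme.{u}} {A : Over S} [GrpObj A] [IsCommMonObj A] {L : A.left.Modules}

theorem bc_comm {T T' : Over S} (g : T' ⟶ T) (β δ : thetaPts A L T) : bc g ⁅β, δ⁆ = ⁅bc g β, bc g δ⁆ :=
  map_commutatorElement _ β δ


theorem topIso_ι_appTop {X : Scheme.{u}} (U : X.Opens) (a : Γ(X, ⊤)) :
    U.topIso.hom (U.ι.appTop a) = X.presheaf.map (homOfLE (le_top : U ≤ ⊤)).op a := by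
  rw [Scheme.Opens.ι_appTop, Scheme.Opens.topIso_hom, ← CategoryTheory.comp_apply, ← Functor.map_comp]
  rfl

theorem topIso_homOfLE_appTop {X : Scheme.{u}} {U V : X.Opens} (h : U ≤ V) (b : Γ(V.toScheme, ⊤)) :
    U.topIso.hom ((X.homOfLE h).appTop b) = X.presheaf.map (homOfLE h).op (V.topIso.hom b) := by
  rw [Scheme.homOfLE_appTop, Scheme.Opens.topIso_hom, Scheme.Opens.topIso_hom, ← CategoryTheory.comp_apply,
    ← CategoryTheory.comp_apply]
  erw [← Functor.map_comp, ← Functor.map_comp]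
  rfl

/-- Functions are separated for open covers. -/
theorem ext_of_cover {X : Scheme.{u}} {a b : Γ(X, ⊤)}
    (h : ∀ x : X, ∃ U : X.Opens, x ∈ U ∧ U.ι.appTop a = U.ι.appTop b) : a = b := by
  choose U hU he using h
  refine X.sheaf.eq_of_locally_eq' U ⊤ (fun _ => homOfLE le_top)
    (fun p _ => Opens.mem_iSup.mpr ⟨p, hU p⟩) a b fun x => ?_
  have h2 := congrArg (U x).topIso.hom (he x)
  rw [topIso_ι_appTop, topIso_ι_appTop] at h2
  exact h2

/-- Functions glue along open covers. -/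
theorem glue_cover {X : Scheme.{u}} (U : X → X.Opens) (hU : ∀ x, x ∈ U x) (f : ∀ x, Γ((U x).toScheme, ⊤))
    (hf : ∀ x y, (X.homOfLE (inf_le_left : U x ⊓ U y ≤ U x)).appTop (f x) =
      (X.homOfLE inf_le_right).appTop (f y)) : ∃ F : Γ(X, ⊤), ∀ x, (U x).ι.appTop F = f x := by
  obtain ⟨F, hF, -⟩ := X.sheaf.existsUnique_gluing' U ⊤ (fun _ => homOfLE le_top)
    (fun p _ => Opens.mem_iSup.mpr ⟨p, hU p⟩) (fun x => (U x).topIso.hom (f x)) fun x y => by
      have h := congrArg (U x ⊓ U y).topIso.hom (hf x y)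
      rw [topIso_homOfLE_appTop, topIso_homOfLE_appTop] at h
      exact h
  refine ⟨F, fun x => (ConcreteCategory.bijective_of_isIso (U x).topIso.hom).1 ?_⟩
  rw [topIso_ι_appTop]
  exact hF x

theorem comm_eq_one (hL : PicF.IsInvertible L) (hA : GammaSnd A)
    (hK : ∀ (Z : Over S) (z : Z ⟶ A), IsMumfordTriv A L z) {T : Over S} (β₁ β₂ : thetaPts A L T) :
    ⁅β₁, β₂⁆ = 1 := by
  let T₁ := A ⊗ T
  choose U hU δ hδ using fun p => exists_local_lift hL (fst A T) (hK T₁ (fst A T)) p
  -- the universal function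
  choose f hf using fun p => exists_isScal hL hA _ (comm_overOne (bc (incl (U p) ≫ snd A T) β₁) (δ p))
  have key : ∀ (p : T₁.left) {W : Over S} (j : W ⟶ sub (U p)) (ρ : thetaPts A L W),
      pt ρ = j ≫ incl (U p) ≫ fst A T →
      IsScal ⁅bc (j ≫ incl (U p) ≫ snd A T) β₁, ρ⁆ (j.left.appTop (f p)) := by
    intro p W j ρ hρ
    have h := isScal_bc hL j (hf p)
    rw [bc_comm, bc_comp, comm_congr hL hA _
      (show pt (bc j (δ p)) = pt ρ by rw [pt_bc, isOverPt_iff.1 (hδ p), hρ])] at h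
    exact h
  obtain ⟨F, hFf⟩ := glue_cover U hU f fun p q => by
    let W := sub (T := T₁) (U p ⊓ U q)
    let jp : W ⟶ sub (U p) := Over.homMk (T₁.left.homOfLE inf_le_left)
      (by show _ ≫ (U p).ι ≫ _ = (U p ⊓ U q).ι ≫ _; rw [← Category.assoc, Scheme.homOfLE_ι])
    let jq : W ⟶ sub (U q) := Over.homMk (T₁.left.homOfLE inf_le_right)
      (by show _ ≫ (U q).ι ≫ _ = (U p ⊓ U q).ι ≫ _; rw [← Category.assoc, Scheme.homOfLE_ι])
    have hjp : jp ≫ incl (U p) = incl (T := T₁) (U p ⊓ U q) := Over.OverMorphism.ext (T₁.left.homOfLE_ι inf_le_left)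
    have hjq : jq ≫ incl (U q) = incl (T := T₁) (U p ⊓ U q) := Over.OverMorphism.ext (T₁.left.homOfLE_ι inf_le_right)
    have hp := key p jp (bc jp (δ p)) (by rw [pt_bc, isOverPt_iff.1 (hδ p)])
    have hq := key q jq (bc jp (δ p)) (by rw [pt_bc, isOverPt_iff.1 (hδ p), reassoc_of% hjp, reassoc_of% hjq])
    rw [reassoc_of% hjp] at hp
    rw [reassoc_of% hjq] at hq
    exact isScal_unique hL hA hp hq
  -- pulling back along a section of `T₁ ⟶ T`
  have pullf : ∀ (τ : T ⟶ T₁), τ ≫ snd A T = 𝟙 T → ∀ (ρ : thetaPts A L T), pt ρ = τ ≫ fst A T →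
      IsScal ⁅β₁, ρ⁆ (τ.left.appTop F) := by
    intro τ hτ ρ hρ
    obtain ⟨c, hc⟩ := exists_isScal hL hA _ (comm_overOne β₁ ρ)
    have hd : ∀ t : T.left, ∃ V : T.left.Opens, t ∈ V ∧ V.ι.appTop c = V.ι.appTop (τ.left.appTop F) := by
      intro t
      let p := τ.left t
      let V : T.left.Opens := τ.left ⁻¹ᵁ U p
      let j : sub V ⟶ sub (U p) := Over.homMk (IsOpenImmersion.lift (U p).ι (V.ι ≫ τ.left)
        (by rintro _ ⟨z, rfl⟩; exact (Scheme.Opens.range_ι (U p)).symm ▸ z.2))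
        (by show _ ≫ (U p).ι ≫ _ = V.ι ≫ _; rw [← Category.assoc, IsOpenImmersion.lift_fac, Category.assoc, Over.w τ])
      have hj : j ≫ incl (U p) = incl V ≫ τ := Over.OverMorphism.ext (IsOpenImmersion.lift_fac _ _ _)
      have h1 := key p j (bc (incl V) ρ) (by rw [pt_bc, hρ, reassoc_of% hj])
      rw [reassoc_of% hj, hτ, Category.comp_id, ← bc_comm] at h1
      refine ⟨V, hU p, ?_⟩
      have h2 := isScal_unique hL hA (isScal_bc hL (incl V) hc) h1
      erw [← hFf p, ← CategoryTheory.comp_apply, ← Scheme.Hom.comp_appTop] at h2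
      have h3 : j.left ≫ (U p).ι = V.ι ≫ τ.left := IsOpenImmersion.lift_fac _ _ _
      rw [h3, Scheme.Hom.comp_appTop, CategoryTheory.comp_apply] at h2
      exact h2
    have : c = τ.left.appTop F := by
      exact ext_of_cover hd
    exact this ▸ hc
  obtain ⟨a, ha⟩ := (hA T).2 F
  -- the unit section: the function is one
  let σ : T ⟶ T₁ := lift 1 (𝟙 T)
  have h1 := pullf σ (lift_snd _ _) 1 (by rw [pt_one, lift_fst])
  rw [commutatorElement_one_right] at h1
  have ha1 : a = 1 := by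
    have h2 := isScal_unique hL hA h1 isScal_one
    rw [← ha, ← CategoryTheory.comp_apply, ← Scheme.Hom.comp_appTop, ← Over.comp_left, lift_snd, Over.id_left,
      Scheme.Hom.id_appTop] at h2
    exact h2
  have hF1 : F = 1 := by rw [← ha, ha1, map_one]
  have h3 := pullf (lift (pt β₂) (𝟙 T)) (lift_snd _ _) β₂ (by rw [lift_fst])
  rw [hF1, map_one] at h3
  exact eq_one_of_isScal h3

end Groth.Agent.ThetaLib
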