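import Groth.Agent.ThetaLib.PullHom
import Groth.Agent.ThetaLib.Commutator

/-!
# Isotropy and inverse images
-/

set_option autoImplicit false
set_option backward.isDefEq.respectTransparency false
set_option backward.isDefEq.respectTransparency.types false
set_option linter.style.haveILetI false
set_option maxHeartbeats 1000000

universe u

open CategoryTheory CategoryTheory.Limits MonoidalCategory CartesianMonoidalCategory MonObj AlgebraicGeometry
open Pseudofunctor Bicategory TopologicalSpace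
open scoped commutatorElement

noncomputable section

namespace Groth.Agent.ThetaLib

open ThetaGrp

variable {S : Scheme.{u}} {A : Over S} [GrpObj A] [IsCommMonObj A] {L : A.left.Modules}

theorem comm_congr₂ (hL : PicF.IsInvertible L) (hA : GammaSnd A) {T : Over S} {β β' δ δ' : thetaPts A L T}
    (h : pt β = pt β') (h' : pt δ = pt δ') : ⁅β, δ⁆ = ⁅β', δ'⁆ := by
  rw [comm_congr hL hA β h', ← commutatorElement_inv δ' β, comm_congr hL hA δ' h, commutatorElement_inv]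

/-- Refinement of two lifts to their common open. -/
theorem exists_two_lifts (hL : PicF.IsInvertible L) {T : Over S} (x y : T ⟶ A) (hx : IsMumfordTriv A L x)
    (hy : IsMumfordTriv A L y) (t : T.left) :
    ∃ (V : T.left.Opens) (β δ : thetaPts A L (sub V)), t ∈ V ∧ pt β = incl V ≫ x ∧ pt δ = incl V ≫ y := by
  obtain ⟨U₁, h₁, β, hβ⟩ := exists_local_lift hL x hx t
  obtain ⟨U₂, h₂, δ, hδ⟩ := exists_local_lift hL y hy t
  let j₁ : sub (U₁ ⊓ U₂) ⟶ sub U₁ := Over.homMk (T.left.homOfLE inf_le_left)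
    (by show _ ≫ U₁.ι ≫ _ = (U₁ ⊓ U₂).ι ≫ _; rw [← Category.assoc, Scheme.homOfLE_ι])
  let j₂ : sub (U₁ ⊓ U₂) ⟶ sub U₂ := Over.homMk (T.left.homOfLE inf_le_right)
    (by show _ ≫ U₂.ι ≫ _ = (U₁ ⊓ U₂).ι ≫ _; rw [← Category.assoc, Scheme.homOfLE_ι])
  have e₁ : j₁ ≫ incl U₁ = incl (T := T) (U₁ ⊓ U₂) := Over.OverMorphism.ext (T.left.homOfLE_ι inf_le_left)
  have e₂ : j₂ ≫ incl U₂ = incl (T := T) (U₁ ⊓ U₂) := Over.OverMorphism.ext (T.left.homOfLE_ι inf_le_right)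
  refine ⟨U₁ ⊓ U₂, bc j₁ β, bc j₂ δ, ⟨h₁, h₂⟩, ?_, ?_⟩
  · rw [pt_bc, isOverPt_iff.1 hβ, reassoc_of% e₁]
  · rw [pt_bc, isOverPt_iff.1 hδ, reassoc_of% e₂]

variable {B : Over S} [GrpObj B] [IsCommMonObj B] {f : A ⟶ B} [IsMonHom f] {M : B.left.Modules}

theorem isotropic_iff_pull (hM : PicF.IsInvertible M) (hA : GammaSnd A) (hB : GammaSnd B)
    {H : Over S} (iH : H ⟶ A) (hH : IsMumfordTriv B M (iH ≫ f))
    (hH' : ∀ (T : Over S) (x : T ⟶ H), IsMumfordTriv B M (x ≫ iH ≫ f)) :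
    IsIsotropic M (iH ≫ f) ↔ IsIsotropic ((Scheme.Modules.pullback f.left).obj M) iH := by
  have hM' := PicClLib.isInvertible_pullback f.left hM
  constructor
  · intro h T x y β₁ β₂ h₁ h₂
    rw [← commutatorElement_eq_one_iff_mul_comm]
    obtain ⟨c, hc⟩ := exists_isScal hM' hA _ (comm_overOne β₁ β₂)
    refine eq_one_of_isScal ((?_ : c = 1) ▸ hc)
    refine ext_of_cover fun t => ?_
    obtain ⟨V, u₁, u₂, ht, hu₁, hu₂⟩ := exists_two_lifts hM (x ≫ iH ≫ f) (y ≫ iH ≫ f) (hH' T x) (hH' T y) t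
    refine ⟨V, ht, ?_⟩
    have hu : ⁅u₁, u₂⁆ = 1 := commutatorElement_eq_one_iff_mul_comm.2
      (h _ (incl V ≫ x) (incl V ≫ y) u₁ u₂ (isOverPt_iff.2 (by rw [hu₁, Category.assoc]))
        (isOverPt_iff.2 (by rw [hu₂, Category.assoc])))
    obtain ⟨b₁, hb₁, hp₁⟩ := exists_isPull (f := f) u₁ (incl V ≫ x ≫ iH) (isOverPt_iff.2 (by rw [hu₁]; simp))
    obtain ⟨b₂, hb₂, hp₂⟩ := exists_isPull (f := f) u₂ (incl V ≫ y ≫ iH) (isOverPt_iff.2 (by rw [hu₂]; simp))
    have hp : IsPull ⁅b₁, b₂⁆ ⁅u₁, u₂⁆ := by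
      rw [commutatorElement_def, commutatorElement_def]
      exact isPull_mul (isPull_mul (isPull_mul hp₁ hp₂) (isPull_inv hp₁)) (isPull_inv hp₂)
    rw [hu] at hp
    have h3 := isScal_of_isPull hM hA (comm_overOne b₁ b₂) hp isScal_one
    have h4 := isScal_bc hM' (incl V) hc
    rw [bc_comm, comm_congr₂ hM' hA (show pt (bc (incl V) β₁) = pt b₁ by
        rw [pt_bc, isOverPt_iff.1 h₁, isOverPt_iff.1 hb₁])
      (show pt (bc (incl V) β₂) = pt b₂ by rw [pt_bc, isOverPt_iff.1 h₂, isOverPt_iff.1 hb₂])] at h4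
    exact (isScal_unique hM' hA h4 h3).trans (map_one _).symm
  · intro h T x y u₁ u₂ h₁ h₂
    rw [← commutatorElement_eq_one_iff_mul_comm]
    obtain ⟨b₁, hb₁, hp₁⟩ := exists_isPull (f := f) u₁ (x ≫ iH) (by rw [Category.assoc]; exact h₁)
    obtain ⟨b₂, hb₂, hp₂⟩ := exists_isPull (f := f) u₂ (y ≫ iH) (by rw [Category.assoc]; exact h₂)
    obtain ⟨c, hc⟩ := exists_isScal hM hB _ (comm_overOne u₁ u₂)
    have hp : IsPull ⁅b₁, b₂⁆ ⁅u₁, u₂⁆ := by
      rw [commutatorElement_def, commutatorElement_def]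
      exact isPull_mul (isPull_mul (isPull_mul hp₁ hp₂) (isPull_inv hp₁)) (isPull_inv hp₂)
    have h3 := isScal_of_isPull hM hA (comm_overOne b₁ b₂) hp hc
    rw [commutatorElement_eq_one_iff_mul_comm.2 (h T x y b₁ b₂ hb₁ hb₂)] at h3
    rw [isScal_unique hM' hA h3 isScal_one] at hc
    exact eq_one_of_isScal hc

end Groth.Agent.ThetaLib
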