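import Groth.Agent.ThetaLib.Transport
import Groth.Agent.LineDesc.Descend

/-!
# Descent of invertible modules along a quotient by a lifted kernel
-/

set_option autoImplicit false
set_option backward.isDefEq.respectTransparency false
set_option backward.isDefEq.respectTransparency.types false
set_option linter.style.haveILetI false
set_option maxHeartbeats 1000000

universe u

open CategoryTheory CategoryTheory.Limits MonoidalCategory CartesianMonoidalCategory MonObj AlgebraicGeometry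
open Pseudofunctor

noncomputable section

namespace Groth.Agent.ThetaLib

open ThetaGrp

variable {S : Scheme.{u}} {A B : Over S} [GrpObj A] [IsCommMonObj A] [GrpObj B] {f : A ⟶ B} [IsMonHom f]
  {N : Over S} [GrpObj N] {i : N ⟶ A} [IsMonHom i] {L : A.left.Modules}

/-- A lift of the kernel to the theta group, on points. -/
structure KerLift (i : N ⟶ A) (L : A.left.Modules) where
  /-- The lift of a point. -/
  δ : ∀ {T : Over S}, (T ⟶ N) →* thetaPts A L T
  pt_δ : ∀ {T : Over S} (n : T ⟶ N), pt (δ n) = n ≫ i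
  bc_δ : ∀ {T T' : Over S} (g : T' ⟶ T) (n : T ⟶ N), bc g (δ n) = δ (g ≫ n)

theorem exists_can (L : A.left.Modules) {W : Pr.{u}} (a : W ⟶ basePr A L) (s : W.base ⟶ S) (hs : a.base ≫ A.hom = s) :
    ∃ κ : W ⟶ thetaObj A L (Over.mk s), κ.base = (lift (Over.homMk a.base hs : Over.mk s ⟶ A) (𝟙 (Over.mk s))).left ∧
      κ ≫ proj A L (Over.mk s) = a ∧ (IsIso (fib a) → IsIso (fib κ)) := by
  refine exists_lift (proj A L (Over.mk s)) a _ ?_
  show (lift (Over.homMk a.base hs : Over.mk s ⟶ A) (𝟙 (Over.mk s))).left ≫ (fst A (Over.mk s)).left = a.base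
  rw [← Over.comp_left, lift_fst]
  rfl

/-- The canonical refinement of a morphism to the pair of `A` and `L`. -/
def can {W : Pr.{u}} (a : W ⟶ basePr A L) (s : W.base ⟶ S) (hs : a.base ≫ A.hom = s) :
    W ⟶ thetaObj A L (Over.mk s) :=
  (exists_can L a s hs).choose

theorem can_base {W : Pr.{u}} (a : W ⟶ basePr A L) (s : W.base ⟶ S) (hs : a.base ≫ A.hom = s) :
    (can a s hs).base = (lift (Over.homMk a.base hs : Over.mk s ⟶ A) (𝟙 (Over.mk s))).left :=
  (exists_can L a s hs).choose_spec.1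

theorem can_proj {W : Pr.{u}} (a : W ⟶ basePr A L) (s : W.base ⟶ S) (hs : a.base ≫ A.hom = s) :
    can a s hs ≫ proj A L (Over.mk s) = a :=
  (exists_can L a s hs).choose_spec.2.1

theorem can_iso {W : Pr.{u}} (a : W ⟶ basePr A L) (s : W.base ⟶ S) (hs : a.base ≫ A.hom = s) [IsIso (fib a)] :
    IsIso (fib (can a s hs)) :=
  (exists_can L a s hs).choose_spec.2.2 inferInstance

variable (D : KerLift i L)

/-- The relation of a kernel lift. -/
def KerLift.Rel {W : Pr.{u}} (a a' : W ⟶ basePr A L) : Prop :=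
  ∃ (T : Over S) (κ : W ⟶ thetaObj A L T) (n : T ⟶ N), IsIso (fib κ) ∧ κ ≫ proj A L T = a ∧
    κ ≫ (D.δ n).1.hom ≫ proj A L T = a'

/-- Equalities of a translated refinement. -/
theorem KerLift.δ_proj_base {T : Over S} (n : T ⟶ N) :
    ((D.δ n).1.hom ≫ proj A L T).base = (fst A T * (snd A T ≫ n ≫ i)).left := by
  show (D.δ n).1.hom.base ≫ (fst A T).left = _
  rw [isOverPt_pt (D.δ n), D.pt_δ, ← Over.comp_left, transl_fst]

theorem KerLift.rel_norm {W : Pr.{u}} {a a' : W ⟶ basePr A L} (h : D.Rel a a') (s : W.base ⟶ S)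
    (hs : a.base ≫ A.hom = s) :
    ∃ (n : Over.mk s ⟶ N) (hs' : a'.base ≫ A.hom = s), can a s hs ≫ (D.δ n).1.hom ≫ proj A L (Over.mk s) = a' ∧
      (Over.homMk a'.base hs' : Over.mk s ⟶ A) = (Over.homMk a.base hs : Over.mk s ⟶ A) * (n ≫ i) := by
  obtain ⟨T, κ, n, hκ, h1, h2⟩ := h
  have hb : κ.base ≫ (fst A T).left = a.base := congrArg CoGrothendieck.Hom.base h1
  let q : Over.mk s ⟶ A ⊗ T := Over.homMk κ.base (by
    show κ.base ≫ (A ⊗ T).hom = s
    rw [← Over.w (fst A T), ← Category.assoc, hb, hs])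
  obtain ⟨g, hg⟩ : ∃ g : Over.mk s ⟶ T, g = q ≫ snd A T := ⟨_, rfl⟩
  have hp : q ≫ fst A T = (Over.homMk a.base hs : Over.mk s ⟶ A) := Over.OverMorphism.ext hb
  have hκ' : κ = can a s hs ≫ bcLift A L g := by
    refine cancel (proj A L T) ?_ ?_
    · show κ.base = (can a s hs).base ≫ (A ◁ g).left
      rw [can_base, ← Over.comp_left]
      show q.left = _
      congr 1
      apply CartesianMonoidalCategory.hom_ext
      · simp [hp]
      · simp [hg]
    · rw [Category.assoc, bcLift_proj, can_proj, h1]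
  have e : can a s hs ≫ (D.δ (g ≫ n)).1.hom ≫ proj A L (Over.mk s) = a' := by
    rw [← h2, hκ', Category.assoc, ← reassoc_of% (isBaseChange_bc g (D.δ n)), D.bc_δ, bcLift_proj]
  have hb' : a'.base = ((Over.homMk a.base hs : Over.mk s ⟶ A) * (g ≫ n ≫ i)).left := by
    rw [← e]
    show (can a s hs).base ≫ ((D.δ (g ≫ n)).1.hom ≫ proj A L (Over.mk s)).base = _
    rw [can_base, D.δ_proj_base, ← Over.comp_left]
    congr 1
    simp [MonObj.comp_mul]
  have hs' : a'.base ≫ A.hom = s := by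
    rw [hb']; exact Over.w ((Over.homMk a.base hs : Over.mk s ⟶ A) * (g ≫ n ≫ i))
  refine ⟨g ≫ n, hs', e, Over.OverMorphism.ext ?_⟩
  show a'.base = _
  rw [hb', Category.assoc]

theorem KerLift.rel_of {W : Pr.{u}} (a : W ⟶ basePr A L) [IsIso (fib a)] (s : W.base ⟶ S) (hs : a.base ≫ A.hom = s)
    (n : Over.mk s ⟶ N) : D.Rel a (can a s hs ≫ (D.δ n).1.hom ≫ proj A L (Over.mk s)) :=
  ⟨_, can a s hs, n, can_iso a s hs, can_proj a s hs, rfl⟩

variable (hN : AlgGrp.IsKernel i f)

/-- The descent datum of a kernel lift. -/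
def KerLift.datum : LineDesc.LDatum (basePr A L) (X := B.left) f.left where
  Rel := D.Rel
  base {W a a'} h := by
    obtain ⟨n, hs', -, hh⟩ := D.rel_norm h (a.base ≫ A.hom) rfl
    have h2 := congrArg (fun m => (m ≫ f).left) hh
    simp only [MonObj.mul_comp, Category.assoc, ker_comp hN, _root_.mul_one] at h2
    exact h2.symm
  refl {W} a ha := by
    haveI := ha
    refine ⟨_, can a (a.base ≫ A.hom) rfl, 1, can_iso _ _ _, can_proj _ _ _, ?_⟩
    rw [map_one]
    show can a _ rfl ≫ 𝟙 _ ≫ _ = a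
    rw [Category.id_comp, can_proj]
  symm {W a a'} _ _ h := by
    obtain ⟨T, κ, n, hκ, h1, h2⟩ := h
    haveI := hκ
    haveI := isIso_fib_of_iso (D.δ n).1
    refine ⟨T, κ ≫ (D.δ n).1.hom, n⁻¹, isIso_fib_comp _ _, by rw [Category.assoc, h2], ?_⟩
    rw [Category.assoc, map_inv]
    show κ ≫ (D.δ n).1.hom ≫ (D.δ n).1.inv ≫ _ = a
    rw [Iso.hom_inv_id_assoc, h1]
  trans {W a a' a''} ha ha' _ h h' := by
    haveI := ha
    haveI := ha'
    let s := a.base ≫ A.hom
    obtain ⟨n, hs', e, hh⟩ := D.rel_norm h s rfl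
    obtain ⟨n', -, e', -⟩ := D.rel_norm h' s hs'
    have hc : can a' s hs' = can a s rfl ≫ (D.δ n).1.hom := by
      refine cancel (proj A L (Over.mk s)) ?_ ?_
      · show (can a' s hs').base = (can a s rfl).base ≫ (D.δ n).1.hom.base
        rw [can_base, can_base, isOverPt_pt (D.δ n), D.pt_δ, ← Over.comp_left, hh]
        congr 1
        apply CartesianMonoidalCategory.hom_ext
        · simp [MonObj.comp_mul]
        · simp
      · rw [Category.assoc, e, can_proj]
    refine ⟨_, can a s rfl, n' * n, can_iso _ _ _, can_proj _ _ _, ?_⟩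
    rw [map_mul, mul_hom, ← e', hc, Category.assoc, Category.assoc]
  natural {W' W} c {a a'} hc _ _ h := by
    obtain ⟨T, κ, n, hκ, h1, h2⟩ := h
    haveI := hc
    haveI := hκ
    exact ⟨T, c ≫ κ, n, isIso_fib_comp _ _, by rw [Category.assoc, h1], by rw [Category.assoc, h2]⟩
  exists_rel {W} a b ha h := by
    haveI := ha
    let s := a.base ≫ A.hom
    have hsb : b ≫ A.hom = s := by
      show b ≫ A.hom = a.base ≫ A.hom
      rw [← Over.w f, ← Category.assoc, ← h, Category.assoc]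
    obtain ⟨n, hn⟩ := exists_ker_lift hN (p := (Over.homMk a.base rfl : Over.mk s ⟶ A))
      (p' := (Over.homMk b hsb : Over.mk s ⟶ A)) (Over.OverMorphism.ext h)
    haveI := can_iso a s rfl
    haveI := isIso_fib_of_iso (D.δ n).1
    haveI := isIso_fib_comp (D.δ n).1.hom (proj A L (Over.mk s))
    refine ⟨_, ?_, isIso_fib_comp (can a s rfl) _, D.rel_of a s rfl n⟩
    show (can a s rfl).base ≫ ((D.δ n).1.hom ≫ proj A L (Over.mk s)).base = _
    rw [can_base, D.δ_proj_base, ← Over.comp_left]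
    have e : lift (Over.homMk a.base rfl : Over.mk s ⟶ A) (𝟙 _) ≫ (fst A _ * (snd A _ ≫ n ≫ i)) =
        (Over.homMk b hsb : Over.mk s ⟶ A) := by
      simp [MonObj.comp_mul, hn]
    rw [e]
    rfl
  unique {W a a' a''} _ _ _ h h' hb := by
    let s := a.base ≫ A.hom
    obtain ⟨n, hs', e, hh⟩ := D.rel_norm h s rfl
    obtain ⟨n', hs'', e', hh'⟩ := D.rel_norm h' s rfl
    have hnn : n ≫ i = n' ≫ i := mul_left_cancel ((hh.symm.trans (show (Over.homMk a'.base hs' : Over.mk s ⟶ A) = Over.homMk a''.base hs'' from Over.OverMorphism.ext hb)).trans hh')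
    obtain rfl := mono_of_kernel hN hnn
    exact e.symm.trans e'

include D hN in
/-- A kernel lift descends the module. -/
theorem exists_descent_of_lift [Flat f.left] [Surjective f.left] [LocallyOfFinitePresentation f.left]
    (hL : PicF.IsInvertible L) :
    ∃ M : B.left.Modules, PicF.IsInvertible M ∧ Nonempty ((Scheme.Modules.pullback f.left).obj M ≅ L) := by
  obtain ⟨M, hM, C, hCb, hCi, -⟩ := LineDesc.exists_descent (D.datum hN) hL
  refine ⟨M, hM, ?_⟩
  have key : ∀ (F : basePr A L ⟶ (⟨B.left, M⟩ : Pr.{u})), F.base = f.left → IsIso (fib F) →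
      Nonempty ((Scheme.Modules.pullback f.left).obj M ≅ L) := by
    rintro ⟨b, φ⟩ rfl hφ
    let φ' : L ⟶ (Scheme.Modules.pullback f.left).obj M := φ
    haveI : IsIso φ' := hφ
    exact ⟨(asIso φ').symm⟩
  exact key C hCb hCi

/-- The kernel lift of a homomorphism into a theta group scheme. -/
def KerLift.ofHom {G : Over S} [GrpObj G] {gu : thetaPts A L G} (hG : IsThetaGrpSch A L G gu) (j : N ⟶ G)
    [IsMonHom j] (hover : ∀ (T : Over S) (n : T ⟶ N) (β : thetaPts A L T), IsBaseChange β (n ≫ j) gu →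
      IsOverPt β (n ≫ i)) : KerLift i L where
  δ {T} := MonoidHom.mk' (fun n => bc (n ≫ j) gu) fun n n' => by
    refine (eq_bc ?_).symm
    have := hG.mul T _ _ _ _ (isBaseChange_bc (n ≫ j) gu) (isBaseChange_bc (n' ≫ j) gu)
    rwa [← MonObj.mul_comp] at this
  pt_δ {T} n := isOverPt_iff.1 (hover T n _ (isBaseChange_bc _ gu))
  bc_δ {T T'} g n := by
    show bc g (bc (n ≫ j) gu) = bc ((g ≫ n) ≫ j) gu
    rw [bc_comp, Category.assoc]

end Groth.Agent.ThetaLib
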