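import Groth.Agent.ThetaLib.Descend

/-!
# Transport of theta points along isomorphisms of modules; the level subgroup of a descent
-/

set_option autoImplicit false
set_option backward.isDefEq.respectTransparency false
set_option backward.isDefEq.respectTransparency.types false
set_option linter.style.haveILetI false
set_option maxHeartbeats 1000000

universe u

open CategoryTheory CategoryTheory.Limits MonoidalCategory CartesianMonoidalCategory MonObj AlgebraicGeometry
open Pseudofunctor Bicategory TopologicalSpace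

noncomputable section

namespace Groth.Agent.ThetaLib

open ThetaGrp

section Tr

variable {S : Scheme.{u}} {A : Over S} {L L' : A.left.Modules}

theorem exists_trObj (φ : L ≅ L') (T : Over S) :
    ∃ e : thetaObj A L T ≅ thetaObj A L' T, e.hom.base = 𝟙 _ ∧
      e.hom ≫ proj A L' T = proj A L T ≫ mkH (P := basePr A L) (Q := basePr A L') (𝟙 A.left)
        (φ.hom ≫ (Scheme.Modules.pullbackId A.left).inv.app L') := by
  let F₀ : basePr A L ⟶ basePr A L' := mkH (𝟙 A.left) (φ.hom ≫ (Scheme.Modules.pullbackId A.left).inv.app L')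
  haveI : IsIso (fib F₀) := inferInstanceAs (IsIso (φ.hom ≫ (Scheme.Modules.pullbackId A.left).inv.app L'))
  haveI := isIso_fib_comp (proj A L T) F₀
  obtain ⟨F, hF, hFp, hFi⟩ := exists_lift (proj A L' T) (proj A L T ≫ F₀) (𝟙 _) (by
    show 𝟙 _ ≫ (fst A T).left = (fst A T).left ≫ 𝟙 A.left
    rw [Category.id_comp, Category.comp_id])
  haveI := hFi inferInstance
  haveI : IsIso F.base := by rw [hF]; infer_instance
  haveI := isIso_of_base F
  exact ⟨asIso F, hF, hFp⟩

/-- The isomorphism of pairs. -/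
def trObj (φ : L ≅ L') (T : Over S) : thetaObj A L T ≅ thetaObj A L' T := (exists_trObj φ T).choose

theorem trObj_base (φ : L ≅ L') (T : Over S) : (trObj φ T).hom.base = 𝟙 _ := (exists_trObj φ T).choose_spec.1

theorem trObj_inv_base (φ : L ≅ L') (T : Over S) : (trObj φ T).inv.base = 𝟙 _ := by
  have h := congrArg CoGrothendieck.Hom.base (trObj φ T).hom_inv_id
  change (trObj φ T).hom.base ≫ (trObj φ T).inv.base = 𝟙 _ at h
  rwa [trObj_base, Category.id_comp] at h

theorem trObj_bcLift (φ : L ≅ L') {T T' : Over S} (g : T' ⟶ T) :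
    (trObj φ T').hom ≫ bcLift A L' g = bcLift A L g ≫ (trObj φ T).hom := by
  refine cancel (proj A L' T) ?_ ?_
  · show (trObj φ T').hom.base ≫ (A ◁ g).left = (A ◁ g).left ≫ (trObj φ T).hom.base
    rw [trObj_base, trObj_base, Category.id_comp, Category.comp_id]
  · rw [Category.assoc, bcLift_proj, Category.assoc,
      show (trObj φ T).hom ≫ proj A L' T = _ from (exists_trObj φ T).choose_spec.2,
      show (trObj φ T').hom ≫ proj A L' T' = _ from (exists_trObj φ T').choose_spec.2, ← Category.assoc, bcLift_proj]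

variable [GrpObj A]

/-- Transport of points of the theta group. -/
def tr (φ : L ≅ L') (T : Over S) : thetaPts A L T →* thetaPts A L' T :=
  MonoidHom.mk' (fun β => ⟨(trObj φ T).symm ≪≫ β.1 ≪≫ trObj φ T, pt β, by
    show (trObj φ T).inv.base ≫ β.1.hom.base ≫ (trObj φ T).hom.base = _
    rw [trObj_base, trObj_inv_base, Category.id_comp, Category.comp_id]
    exact isOverPt_pt β⟩) fun β δ => Subtype.ext (Iso.ext (by
    show (trObj φ T).inv ≫ (δ.1.hom ≫ β.1.hom) ≫ (trObj φ T).hom =
      ((trObj φ T).inv ≫ δ.1.hom ≫ (trObj φ T).hom) ≫ (trObj φ T).inv ≫ β.1.hom ≫ (trObj φ T).hom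
    simp))

theorem pt_tr (φ : L ≅ L') {T : Over S} (β : thetaPts A L T) : pt (tr φ T β) = pt β := by
  refine isOverPt_iff.1 ?_
  show (trObj φ T).inv.base ≫ β.1.hom.base ≫ (trObj φ T).hom.base = _
  rw [trObj_base, trObj_inv_base, Category.id_comp, Category.comp_id]
  exact isOverPt_pt β

theorem bc_tr (φ : L ≅ L') {T T' : Over S} (g : T' ⟶ T) (β : thetaPts A L T) :
    bc g (tr φ T β) = tr φ T' (bc g β) := by
  refine (eq_bc ?_).symm
  show ((trObj φ T').inv ≫ (bc g β).1.hom ≫ (trObj φ T').hom) ≫ bcLift A L' g =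
    bcLift A L' g ≫ (trObj φ T).inv ≫ β.1.hom ≫ (trObj φ T).hom
  rw [Category.assoc, Category.assoc, trObj_bcLift, reassoc_of% (isBaseChange_bc g β), Iso.inv_comp_eq,
    reassoc_of% (trObj_bcLift φ g), Iso.hom_inv_id_assoc]

end Tr

section Level

variable {S : Scheme.{u}} {A B : Over S} [GrpObj A] [GrpObj B] {f : A ⟶ B} [IsMonHom f] {M : B.left.Modules}
  {N : Over S} {i : N ⟶ A}

theorem isPull_bc {T T' : Over S} (g : T' ⟶ T) {β : thetaPts A ((Scheme.Modules.pullback f.left).obj M) T}
    {w : thetaPts B M T} (hx : pt w = pt β ≫ f) (h : IsPull β w) :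
    IsPull (f := f) (L := M) (bc g β) (bc g w) := by
  refine cancel (bcLift B M g) ?_ ?_
  · show (bc g β).1.hom.base ≫ (pullObj f M T').base = (pullObj f M T').base ≫ (bc g w).1.hom.base
    rw [pullObj_base, isOverPt_pt (bc g β), isOverPt_pt (bc g w), pt_bc, pt_bc, hx, ← Over.comp_left,
      ← Over.comp_left, whiskerRight_transl, Category.assoc]
  · rw [Category.assoc, Category.assoc, ← pullObj_bcLift, isBaseChange_bc g w, reassoc_of% (isBaseChange_bc g β), h,
      ← Category.assoc, pullObj_bcLift, Category.assoc]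

theorem bc_kerPt (hN : AlgGrp.IsKernel i f) {T T' : Over S} (g : T' ⟶ T) (n : T ⟶ N) :
    bc g (kerPt (M := M) hN n) = kerPt hN (g ≫ n) := by
  refine kerPt_eq hN _ (by rw [pt_bc, pt_kerPt, Category.assoc]) ?_
  have h := isPull_bc g (by rw [pt_one, pt_kerPt, Category.assoc, ker_comp hN]) (isPull_kerPt (M := M) hN n)
  rwa [map_one] at h

variable [IsCommMonObj A] [GrpObj N] [IsMonHom i]

theorem kerPt_mul (hN : AlgGrp.IsKernel i f) {T : Over S} (n n' : T ⟶ N) :
    kerPt (M := M) hN (n * n') = kerPt hN n * kerPt hN n' := by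
  refine (kerPt_eq hN _ ?_ ?_).symm
  · rw [pt_mul, pt_kerPt, pt_kerPt, MonObj.mul_comp, mul_comm]
  · have h := isPull_mul (isPull_kerPt (M := M) hN n) (isPull_kerPt (M := M) hN n')
    rwa [_root_.one_mul] at h

theorem mono_of_kernel (hN : AlgGrp.IsKernel i f) {T : Over S} {n n' : T ⟶ N} (h : n ≫ i = n' ≫ i) : n = n' :=
  hN.hom_ext h (CartesianMonoidalCategory.toUnit_unique _ _)

theorem isClosedImmersion_kernel (hN : AlgGrp.IsKernel i f) [IsSeparated B.hom] : IsClosedImmersion i.left := by
  have hsq := hN.map (Over.forget S)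
  haveI : IsClosedImmersion (η[B].left ≫ B.hom) := by rw [Over.w η[B]]; exact inferInstanceAs (IsClosedImmersion (𝟙 S))
  haveI : IsClosedImmersion η[B].left := IsClosedImmersion.of_comp η[B].left B.hom
  exact MorphismProperty.of_isPullback (P := @IsClosedImmersion) hsq.flip ‹_›

/-- The level subgroup attached to a descent. -/
theorem exists_level (hN : AlgGrp.IsKernel i f) [IsSeparated B.hom] {L : A.left.Modules}
    (φ : (Scheme.Modules.pullback f.left).obj M ≅ L) {G : Over S} [GrpObj G] {gu : thetaPts A L G}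
    (hG : IsThetaGrpSch A L G gu) :
    ∃ j : N ⟶ G, IsMonHom j ∧ IsLevelSubgrp gu j ∧
      (∀ (T : Over S) (n : T ⟶ N), IsBaseChange (tr φ T (kerPt hN n)) (n ≫ j) gu) ∧
      ∀ (T : Over S) (n : T ⟶ N) (β : thetaPts A L T), IsBaseChange β (n ≫ j) gu → IsOverPt β (n ≫ i) := by
  obtain ⟨j, hj, -⟩ := hG.univ N (tr φ N (kerPt hN (𝟙 N)))
  have key : ∀ (T : Over S) (n : T ⟶ N), IsBaseChange (tr φ T (kerPt hN n)) (n ≫ j) gu := fun T n => by
    have h := baseChange_comp (isBaseChange_bc n _) hj
    rwa [bc_tr, bc_kerPt, Category.comp_id] at h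
  have hmul : ∀ (T : Over S) (x y : T ⟶ N), (x * y) ≫ j = (x ≫ j) * (y ≫ j) := fun T x y => by
    have h1 := hG.mul T _ _ _ _ (key T x) (key T y)
    rw [← map_mul, ← kerPt_mul] at h1
    exact (hG.univ T _).unique (key T _) h1
  have hone : ∀ T : Over S, (1 : T ⟶ N) ≫ j = 1 := fun T => by
    have e := hmul T 1 1
    rw [_root_.one_mul] at e
    exact left_eq_mul.1 e
  have hmon : IsMonHom j := by
    refine ⟨?_, ?_⟩
    · have e := hone (𝟙_ (Over S))
      rw [Hom.one_def, Hom.one_def, toUnit_unique (toUnit (𝟙_ (Over S))) (𝟙 _), Category.id_comp,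
        Category.id_comp] at e
      exact e
    · have e := hmul (N ⊗ N) (fst N N) (snd N N)
      rw [Hom.mul_def, Hom.mul_def, lift_fst_snd, Category.id_comp, ← lift_map, lift_fst_snd, Category.id_comp] at e
      exact e
  have hover : ∀ (T : Over S) (n : T ⟶ N) (β : thetaPts A L T), IsBaseChange β (n ≫ j) gu → IsOverPt β (n ≫ i) :=
    fun T n β h => isOverPt_iff.2 (by rw [baseChange_unique h (key T n), pt_tr, pt_kerPt])
  refine ⟨j, hmon, ⟨?_, hmon, fun T h β hβ h1 => ?_⟩, key, hover⟩
  · have e : j ≫ pt gu = i := by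
      rw [← baseChange_pt hj, pt_tr, pt_kerPt, Category.id_comp]
    haveI : IsClosedImmersion (j.left ≫ (pt gu).left) := by
      rw [← Over.comp_left, e]; exact isClosedImmersion_kernel hN
    exact IsImmersion.of_comp j.left (pt gu).left
  · refine mono_of_kernel hN ?_
    rw [← isOverPt_iff.1 (hover T h β hβ), isOverPt_iff.1 h1, MonObj.one_comp]

end Level

end Groth.Agent.ThetaLib
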