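import Groth.Agent.ThetaLib.CocycleSplit
import Groth.Agent.ThetaLib.Transport
import Groth.Agent.ThetaLib.LineDescent
import Groth.Agent.ThetaLib.GrpRep
import Groth.Agent.ThetaLib.Isotropic

/-!
# An isotropic finite subgroup lifts to the theta group over an algebraically closed field
-/

set_option autoImplicit false
set_option backward.isDefEq.respectTransparency false
set_option backward.isDefEq.respectTransparency.types false
set_option linter.style.haveILetI false
set_option maxHeartbeats 1000000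

universe u

open CategoryTheory CategoryTheory.Limits MonoidalCategory CartesianMonoidalCategory MonObj AlgebraicGeometry
open Opposite

noncomputable section

namespace Groth.Agent.ThetaLib

open ThetaGrp

theorem discreteTopology_of_isFinite {k : Type u} [Field k] (N : Scheme.{u}) (f : N ⟶ Spec (CommRingCat.of k))
    [IsFinite f] : DiscreteTopology N := by
  haveI : IsAffine N := isAffine_of_isAffineHom f
  haveI : IsFinite (Spec.map (Spec.preimage (N.isoSpec.inv ≫ f))) := by
    rw [Spec.map_preimage]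
    infer_instance
  have h := (IsFinite.SpecMap_iff _).1 ‹IsFinite (Spec.map (Spec.preimage (N.isoSpec.inv ≫ f)))›
  letI := (Spec.preimage (N.isoSpec.inv ≫ f)).hom.toAlgebra
  haveI : Module.Finite k Γ(N, ⊤) := h
  haveI : IsArtinianRing Γ(N, ⊤) := IsArtinianRing.of_finite k _
  haveI : DiscreteTopology (Spec Γ(N, ⊤)) := inferInstanceAs (DiscreteTopology (PrimeSpectrum _))
  exact N.isoSpec.hom.homeomorph.symm.discreteTopology

theorem scalPt_mul {S : Scheme.{u}} {A : Over S} [GrpObj A] {L : A.left.Modules} (hL : PicF.IsInvertible L)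
    {T : Over S} (a b : (Γ(T.left, ⊤))ˣ) : scalPt (A := A) hL (a * b) = scalPt hL a * scalPt hL b := by
  refine (eq_of_isScal ?_ (isScal_scalPt hL _)).symm
  show (scalPt hL b).1.hom ≫ (scalPt hL a).1.hom = _
  rw [isScal_scalPt hL a, isScal_scalPt hL b, smulH_comp, Category.id_comp, smulH_smulH, ← map_mul]
  rfl

theorem split_comb {G U : Type*} [Group G] [CommGroup U] (f : U →* G) (hc : ∀ a b, Commute (f a) b)
    (a b c d : U) (s t r : G) (hst : s * t = f c * r) (hd : a * b = c * d) :
    (f a)⁻¹ * s * ((f b)⁻¹ * t) = (f d)⁻¹ * r := by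
  have h : d⁻¹ = a⁻¹ * b⁻¹ * c := by
    rw [← mul_inv, hd, mul_inv, _root_.mul_assoc, mul_comm d⁻¹, ← _root_.mul_assoc, inv_mul_cancel, _root_.one_mul]
  calc (f a)⁻¹ * s * ((f b)⁻¹ * t) = (f a)⁻¹ * (s * (f b)⁻¹) * t := by simp [_root_.mul_assoc]
    _ = (f a)⁻¹ * ((f b)⁻¹ * s) * t := by rw [((hc b s).inv_left).eq]
    _ = (f a)⁻¹ * (f b)⁻¹ * (s * t) := by simp [_root_.mul_assoc]
    _ = f (a⁻¹ * b⁻¹ * c) * r := by rw [hst, map_mul, map_mul, map_inv, map_inv, _root_.mul_assoc, _root_.mul_assoc, _root_.mul_assoc]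
    _ = (f d)⁻¹ * r := by rw [← h, map_inv]

variable {k : Type u} [Field k] [IsAlgClosed k] {A : Over (Spec (CommRingCat.of k))} [GrpObj A] [IsCommMonObj A]
  {L : A.left.Modules} {N : Over (Spec (CommRingCat.of k))} [GrpObj N] [IsFinite N.hom]
  {i : N ⟶ A} [IsMonHom i] [Mono i]

/-- An isotropic finite subgroup of `K(L)` lifts. -/
theorem exists_kerLift (hL : PicF.IsInvertible L) (hA : GammaSnd A) (hi : IsMumfordTriv A L i)
    (hiso : IsIsotropic L i) : Nonempty (KerLift i L) := by
  haveI := discreteTopology_of_isFinite N.left N.hom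
  -- a lift of the universal point
  choose U hU δ₀ hδ₀ using fun x : N.left => exists_local_lift hL i hi x
  let V : N.left → N.left.Opens := fun x => ⟨{x}, isOpen_discrete _⟩
  have hV : ∀ x, x ∈ V x := fun x => rfl
  have hVU : ∀ x, V x ≤ U x := fun x y hy => by
    obtain rfl : y = x := hy
    exact hU _
  let v : ∀ x, sub (V x) ⟶ sub (U x) := fun x => Over.homMk (N.left.homOfLE (hVU x)) (by simp)
  have hv : ∀ x, v x ≫ incl (U x) = incl (V x) := fun x => Over.OverMorphism.ext (N.left.homOfLE_ι (hVU x))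
  let β : ∀ x, thetaPts A L (sub (V x)) := fun x => bc (v x) (δ₀ x)
  haveI : ∀ x, IsOpenImmersion (incl (V x)).left := fun x => inferInstanceAs (IsOpenImmersion (V x).ι)
  obtain ⟨s₀, hs₀⟩ := pts_glue (A := A) (L := L) (T := N) (fun x => incl (V x))
    (fun z => ⟨z, ⟨z, hV z⟩, rfl⟩) β fun x y W a a' h => by
    by_cases hxy : x = y
    · subst hxy
      have : a = a' := Over.OverMorphism.ext ((cancel_mono (V x).ι).1 (congrArg CommaMorphism.left h))
      rw [this]
    · haveI : IsEmpty W.left := ⟨fun w => hxy (by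
        have e : (a.left w).1 = (a'.left w).1 := congr($(congrArg CommaMorphism.left h) w)
        exact ((a.left w).2 : (a.left w).1 = x).symm.trans (e.trans ((a'.left w).2 : (a'.left w).1 = y)))⟩
      exact pts_ext (fun _ : PEmpty.{u + 1} => 𝟙 W) (fun w => isEmptyElim w) fun e => e.elim
  have hps₀ : pt s₀ = i := by
    haveI := hV
    let 𝒰 : N.left.OpenCover := Scheme.Cover.mkOfCovers N.left (fun x => (V x).toScheme) (fun x => (V x).ι)
      (fun z => ⟨z, ⟨z, hV z⟩, rfl⟩)
    refine Over.OverMorphism.ext (Scheme.Cover.hom_ext 𝒰 _ _ fun x => ?_)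
    have h := congrArg pt (hs₀ x)
    rw [pt_bc, pt_bc, isOverPt_iff.1 (hδ₀ x), ← Category.assoc, hv] at h
    exact congrArg CommaMorphism.left h
  let s : ∀ {T : Over (Spec (CommRingCat.of k))}, (T ⟶ N) → thetaPts A L T := fun n => bc n s₀
  have hs : ∀ {T : Over (Spec (CommRingCat.of k))} (n : T ⟶ N), pt (s n) = n ≫ i := fun n => by
    rw [show pt (s n) = _ from pt_bc n s₀, hps₀]
  have hsbc : ∀ {T T' : Over (Spec (CommRingCat.of k))} (g : T' ⟶ T) (n : T ⟶ N), bc g (s n) = s (g ≫ n) :=
    fun g n => bc_comp _ _ _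
  have hcommN : ∀ {T : Over (Spec (CommRingCat.of k))} (n m : T ⟶ N), n * m = m * n := fun n m =>
    (cancel_mono i).1 (by rw [MonObj.mul_comp, MonObj.mul_comp, mul_comm])
  -- the cocycle
  have hex : ∀ {T : Over (Spec (CommRingCat.of k))} (n m : T ⟶ N),
      ∃ a, s n * s m * (s (n * m))⁻¹ = scalPt hL a := fun n m =>
    exists_eq_scalPt hL hA _ (isOverPt_iff.2 (by
      rw [pt_mul, pt_inv, pt_mul, hs, hs, hs, MonObj.mul_comp, mul_comm (n ≫ i), inv_mul_cancel]))
  let c : ∀ {T : Over (Spec (CommRingCat.of k))}, (T ⟶ N) → (T ⟶ N) → (Γ(T.left, ⊤))ˣ :=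
    fun n m => (hex n m).choose
  have hc : ∀ {T : Over (Spec (CommRingCat.of k))} (n m : T ⟶ N), s n * s m = scalPt hL (c n m) * s (n * m) :=
    fun n m => mul_inv_eq_iff_eq_mul.1 (hex n m).choose_spec
  have hcen : ∀ {T : Over (Spec (CommRingCat.of k))} (a : (Γ(T.left, ⊤))ˣ) (b : thetaPts A L T),
      Commute (scalPt hL a) b := fun a b =>
    commute_of_overOne hL hA (isOverPt_of_isScal (isScal_scalPt hL a)) b
  have hnat : ∀ {T T' : Over (Spec (CommRingCat.of k))} (g : T' ⟶ T) (n m : T ⟶ N),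
      Units.map g.left.appTop.hom.toMonoidHom (c n m) = c (g ≫ n) (g ≫ m) := fun g n m =>
    scalPt_injective hL hA (by
      have h := congrArg (bc g) (hc n m)
      rw [map_mul, map_mul, hsbc, hsbc, hsbc, bc_scalPt, hc, MonObj.comp_mul] at h
      exact (mul_right_cancel h).symm)
  have hsymm : ∀ {T : Over (Spec (CommRingCat.of k))} (n m : T ⟶ N), c n m = c m n := fun {T} n m =>
    scalPt_injective hL hA (by
      have h := hiso T n m _ _ (isOverPt_iff.2 (hs n)) (isOverPt_iff.2 (hs m))
      rw [hc, hc, hcommN m n] at h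
      exact mul_right_cancel h)
  have hcoc : ∀ {T : Over (Spec (CommRingCat.of k))} (n m l : T ⟶ N),
      c n m * c (n * m) l = c m l * c n (m * l) := fun n m l =>
    scalPt_injective hL hA (by
      have h := _root_.mul_assoc (s n) (s m) (s l)
      rw [hc n m, hc m l] at h
      have e1 : scalPt hL (c n m) * s (n * m) * s l = scalPt hL (c n m * c (n * m) l) * s (n * (m * l)) := by
        rw [_root_.mul_assoc, hc, ← _root_.mul_assoc, ← scalPt_mul, _root_.mul_assoc n m l]
      have e2 : s n * (scalPt hL (c m l) * s (m * l)) = scalPt hL (c m l * c n (m * l)) * s (n * (m * l)) := by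
        rw [← _root_.mul_assoc, ← (hcen (c m l) (s n)).eq, _root_.mul_assoc, hc, ← _root_.mul_assoc, ← scalPt_mul]
      rw [e1, e2] at h
      exact mul_right_cancel h)
  obtain ⟨a, hau, ha⟩ := exists_split (N := N) (fun {T} n m => (c n m).val)
    (fun n m => (c n m).isUnit) (fun g n m => congrArg Units.val (hnat g n m))
    (fun n m => congrArg Units.val (hsymm n m))
    (fun n m l => congrArg Units.val (hcoc n m l)) hcommN
  let av : ∀ {T : Over (Spec (CommRingCat.of k))}, (T ⟶ N) → (Γ(T.left, ⊤))ˣ :=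
    fun n => Units.map n.left.appTop.hom.toMonoidHom hau.unit
  refine ⟨⟨fun {T} => MonoidHom.mk' (fun n => (scalPt hL (av n))⁻¹ * s n) fun n m => ?_, fun {T} n => ?_,
    fun {T T'} g n => ?_⟩⟩
  · have h1 : av n * av m = c n m * av (n * m) := Units.ext (ha n m)
    exact (split_comb (MonoidHom.mk' (scalPt (A := A) (L := L) (T := T) hL) (scalPt_mul hL)) hcen _ _ _ _ _ _ _
      (hc n m) h1).symm
  · show pt ((scalPt hL (av n))⁻¹ * s n) = n ≫ i
    rw [pt_mul, pt_inv, isOverPt_iff.1 (isOverPt_of_isScal (isScal_scalPt hL _)), inv_one, _root_.mul_one, hs]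
  · show bc g ((scalPt hL (av n))⁻¹ * s n) = (scalPt hL (av (g ≫ n)))⁻¹ * s (g ≫ n)
    rw [map_mul, map_inv, hsbc, bc_scalPt]
    congr 3

end Groth.Agent.ThetaLib
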