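import Groth.Agent.ThetaLib.Points
import Groth.Agent.H23.CubeAb

/-!
# Points over the identity translation are scalars, and are central
-/

set_option autoImplicit false
set_option backward.isDefEq.respectTransparency false
set_option backward.isDefEq.respectTransparency.types false
set_option linter.style.haveILetI false
set_option maxHeartbeats 1000000

universe u

open CategoryTheory CategoryTheory.Limits MonoidalCategory CartesianMonoidalCategory MonObj AlgebraicGeometry
open Pseudofunctor Bicategory TopologicalSpace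

noncomputable section

namespace Groth.Agent.ThetaLib

open ThetaGrp HilbPoly

/-- Functions on the base of every `T` are all the functions of `A ⊗ T`. -/
def GammaSnd {S : Scheme.{u}} (A : Over S) : Prop :=
  ∀ T : Over S, Function.Bijective (snd A T).left.appTop

theorem gammaSnd_of_abelian {k : Type u} [Field k] (A : Over (Spec (CommRingCat.of k))) [IsProper A.hom]
    [GeometricallyIntegral A.hom] : GammaSnd A := fun T =>
  haveI : GeometricallyConnected A.hom := H23.CubeAb.geometricallyConnected_of_integral A.hom
  H23.Rigid.bijective_app_snd_of_bijective A.hom T.hom (H23.CubeField.bijective_appTop_of_connected A) ⊤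

variable {S : Scheme.{u}} {A : Over S} [GrpObj A] {L : A.left.Modules}

/-- `β` is multiplication by the function `a` of the base. -/
def IsScal {T : Over S} (β : thetaPts A L T) (a : Γ(T.left, ⊤)) : Prop :=
  β.1.hom = smulH ((snd A T).left.appTop a) (𝟙 (thetaObj A L T))

theorem exists_isScal (hL : PicF.IsInvertible L) (hA : GammaSnd A) {T : Over S} (β : thetaPts A L T)
    (hβ : IsOverPt β 1) : ∃ a, IsScal β a := by
  haveI := isIso_fib_id (thetaObj A L T)
  obtain ⟨b, hb⟩ := exists_eq_smulH (PicClLib.isInvertible_pullback _ hL) β.1.hom (𝟙 (thetaObj A L T))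
    (by rw [hβ, transl_one]; rfl)
  obtain ⟨a, rfl⟩ := (hA T).2 b
  exact ⟨a, hb⟩

theorem isScal_unique (hL : PicF.IsInvertible L) (hA : GammaSnd A) {T : Over S} {β : thetaPts A L T}
    {a b : Γ(T.left, ⊤)} (ha : IsScal β a) (hb : IsScal β b) : a = b := by
  haveI := isIso_fib_id (thetaObj A L T)
  exact (hA T).1 (smulH_injective (PicClLib.isInvertible_pullback _ hL) _ (ha.symm.trans hb))

theorem isScal_one {T : Over S} : IsScal (1 : thetaPts A L T) 1 := by
  show 𝟙 (thetaObj A L T) = smulH (P := thetaObj A L T) ((snd A T).left.appTop 1) (𝟙 (thetaObj A L T))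
  erw [map_one]
  exact (smulH_one _).symm

theorem eq_one_of_isScal {T : Over S} {β : thetaPts A L T} (h : IsScal β 1) : β = 1 :=
  Subtype.ext (Iso.ext (h.trans (isScal_one (A := A) (L := L) (T := T)).symm))

theorem isScal_bc (hL : PicF.IsInvertible L) {T T' : Over S} (g : T' ⟶ T) {β : thetaPts A L T}
    {a : Γ(T.left, ⊤)} (ha : IsScal β a) : IsScal (bc g β) (g.left.appTop a) := by
  refine cancel (bcLift A L g) ?_ ?_
  · rw [smulH_base, show ((bc g β).1.hom).base = _ from isOverPt_pt (bc g β), pt_bc]
    have h1 : pt β = 1 := isOverPt_iff.1 (show β.1.hom.base = (transl A 1).left by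
      rw [ha, smulH_base, transl_one]; rfl)
    rw [h1, MonObj.comp_one, transl_one]; rfl
  · rw [isBaseChange_bc g β, ha, comp_smulH (PicClLib.isInvertible_pullback _ hL), Category.comp_id, smulH_comp,
      Category.id_comp]
    congr 1
    show (A ◁ g).left.appTop ((snd A T).left.appTop a) = (snd A T').left.appTop (g.left.appTop a)
    rw [← CategoryTheory.comp_apply, ← CategoryTheory.comp_apply, ← Scheme.Hom.comp_appTop,
      ← Scheme.Hom.comp_appTop, ← Over.comp_left, ← Over.comp_left, whiskerLeft_snd]

/-- Points over the identity translation are central. -/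
theorem commute_of_overOne (hL : PicF.IsInvertible L) (hA : GammaSnd A) {T : Over S} {s : thetaPts A L T}
    (hs : IsOverPt s 1) (β : thetaPts A L T) : Commute s β := by
  obtain ⟨a, ha⟩ := exists_isScal hL hA s hs
  refine Subtype.ext (Iso.ext ?_)
  change β.1.hom ≫ s.1.hom = s.1.hom ≫ β.1.hom
  rw [ha, comp_smulH (PicClLib.isInvertible_pullback _ hL), Category.comp_id, smulH_comp, Category.id_comp]
  congr 1
  rw [show β.1.hom.base = (transl A (pt β)).left from isOverPt_pt β]
  show (transl A (pt β)).left.appTop ((snd A T).left.appTop a) = _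
  rw [← CategoryTheory.comp_apply, ← Scheme.Hom.comp_appTop, ← Over.comp_left, transl_snd]

variable [IsCommMonObj A]

open scoped commutatorElement in
theorem comm_overOne {T : Over S} (β δ : thetaPts A L T) : IsOverPt ⁅β, δ⁆ 1 := by
  rw [isOverPt_iff, commutatorElement_def, pt_mul, pt_mul, pt_mul, pt_inv, pt_inv]
  rw [mul_comm (pt δ) (pt β)]
  group

open scoped commutatorElement in
/-- The commutator only depends on the translations. -/
theorem comm_congr (hL : PicF.IsInvertible L) (hA : GammaSnd A) {T : Over S} (β : thetaPts A L T)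
    {δ δ' : thetaPts A L T} (h : pt δ = pt δ') : ⁅β, δ⁆ = ⁅β, δ'⁆ := by
  have hs : IsOverPt (δ⁻¹ * δ') 1 := by
    rw [isOverPt_iff, pt_mul, pt_inv, h, mul_inv_cancel]
  have hc := commute_of_overOne hL hA hs β
  rw [commutatorElement_def, commutatorElement_def]
  calc β * δ * β⁻¹ * δ⁻¹ = β * δ * ((δ⁻¹ * δ') * β⁻¹ * (δ⁻¹ * δ')⁻¹) * δ⁻¹ := by
        rw [show (δ⁻¹ * δ') * β⁻¹ = β⁻¹ * (δ⁻¹ * δ') from (hc.inv_right).eq]
        group
    _ = β * δ' * β⁻¹ * δ'⁻¹ := by group

end Groth.Agent.ThetaLib
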