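import Groth.Agent.ThetaLib.PrGlue
import Groth.Agent.ThetaLib.Scalar
import Groth.Agent.H23.EqvUnr

/-!
# Gluing of points of the theta group
-/

set_option autoImplicit false
set_option backward.isDefEq.respectTransparency false
set_option backward.isDefEq.respectTransparency.types false
set_option linter.style.haveILetI false
set_option maxHeartbeats 1000000

universe u

open CategoryTheory CategoryTheory.Limits MonoidalCategory CartesianMonoidalCategory MonObj AlgebraicGeometry
open Pseudofunctor Bicategory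

noncomputable section

namespace Groth.Agent.ThetaLib

open ThetaGrp

variable {S : Scheme.{u}} {A : Over S} [GrpObj A] {L : A.left.Modules} {T : Over S}

theorem bcLift_id (A : Over S) (L : A.left.Modules) (T : Over S) : bcLift A L (𝟙 T) = 𝟙 (thetaObj A L T) := by
  refine cancel (proj A L T) ?_ ?_
  · show (A ◁ 𝟙 T).left = 𝟙 _
    rw [MonoidalCategory.whiskerLeft_id]; rfl
  · rw [bcLift_proj, Category.id_comp]

theorem bc_id (β : thetaPts A L T) : bc (𝟙 T) β = β := by
  refine (eq_bc ?_).symm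
  show β.1.hom ≫ bcLift A L (𝟙 T) = bcLift A L (𝟙 T) ≫ β.1.hom
  rw [bcLift_id, Category.id_comp, Category.comp_id]

variable {I : Type u} {Ti : I → Over S} (j : ∀ i, Ti i ⟶ T) [∀ i, IsOpenImmersion (j i).left]
  (hcov : ∀ t : T.left, ∃ i, t ∈ Set.range (j i).left)

theorem isOpenImmersion_bcLift (i : I) : IsOpenImmersion (bcLift A L (j i)).base :=
  MorphismProperty.of_isPullback (H23.EqvUnr.isPullback_whiskerLeft A (j i)).flip
    (inferInstanceAs (IsOpenImmersion (j i).left))

include hcov in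
omit [GrpObj A] [∀ i, IsOpenImmersion (j i).left] in
theorem exists_mem_bcLift (x : (A ⊗ T).left) : ∃ i, x ∈ Set.range (bcLift A L (j i)).base := by
  obtain ⟨i, ti, hti⟩ := hcov ((snd A T).left x)
  obtain ⟨w, hw, -⟩ := Scheme.exists_preimage_of_isPullback (H23.EqvUnr.isPullback_whiskerLeft A (j i)) x ti hti.symm
  exact ⟨i, w, hw⟩

include hcov in
theorem pts_ext {β δ : thetaPts A L T} (h : ∀ i, bc (j i) β = bc (j i) δ) : β = δ := by
  haveI := fun i => isOpenImmersion_bcLift (A := A) (L := L) j i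
  have hp : pt β = pt δ := by
    refine Over.OverMorphism.ext ?_
    let 𝒰 : T.left.OpenCover := Scheme.Cover.mkOfCovers I (fun i => (Ti i).left) (fun i => (j i).left) hcov
    refine Scheme.Cover.hom_ext 𝒰 _ _ fun i => ?_
    have h1 := congrArg pt (h i)
    rw [pt_bc, pt_bc] at h1
    exact congrArg CommaMorphism.left h1
  refine ext_proj hp ?_
  haveI := isIso_fib_of_iso β.1
  haveI := isIso_fib_of_iso δ.1
  haveI := isIso_fib_comp β.1.hom (proj A L T)
  haveI := isIso_fib_comp δ.1.hom (proj A L T)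
  refine eq_of_pl_cover (fun i => bcLift A L (j i)) (fun x => exists_mem_bcLift (A := A) (L := L) j hcov x) ?_ fun i => ?_
  · show β.1.hom.base ≫ (fst A T).left = δ.1.hom.base ≫ (fst A T).left
    rw [isOverPt_pt β, isOverPt_pt δ, hp]
  · rw [← reassoc_of% (isBaseChange_bc (j i) β), ← reassoc_of% (isBaseChange_bc (j i) δ), h i]

include hcov in
theorem pts_glue (β : ∀ i, thetaPts A L (Ti i))
    (h : ∀ i k (W : Over S) (a : W ⟶ Ti i) (a' : W ⟶ Ti k), a ≫ j i = a' ≫ j k → bc a (β i) = bc a' (β k)) :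
    ∃ β₀ : thetaPts A L T, ∀ i, bc (j i) β₀ = β i := by
  haveI := fun i => isOpenImmersion_bcLift (A := A) (L := L) j i
  let 𝒰 : T.left.OpenCover := Scheme.Cover.mkOfCovers I (fun i => (Ti i).left) (fun i => (j i).left) hcov
  have hov : ∀ i k, pullback.snd (j i).left (j k).left ≫ (Ti k).hom =
      pullback.fst (j i).left (j k).left ≫ (Ti i).hom := fun i k => by
    rw [← Over.w (j k), ← Over.w (j i), ← Category.assoc, ← pullback.condition, Category.assoc]
  -- the translation point
  let x₀ : T.left ⟶ A.left := 𝒰.glueMorphisms (fun i => (pt (β i)).left) fun i k => by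
    let W : Over S := Over.mk (pullback.fst (j i).left (j k).left ≫ (Ti i).hom)
    let a : W ⟶ Ti i := Over.homMk (pullback.fst (j i).left (j k).left) rfl
    let a' : W ⟶ Ti k := Over.homMk (pullback.snd (j i).left (j k).left) (hov i k)
    have h1 := congrArg pt (h i k W a a' (Over.OverMorphism.ext pullback.condition))
    rw [pt_bc, pt_bc] at h1
    exact congrArg CommaMorphism.left h1
  have hx₀ : ∀ i, (j i).left ≫ x₀ = (pt (β i)).left := fun i => Scheme.Cover.ι_glueMorphisms 𝒰 _ _ i
  let x : T ⟶ A := Over.homMk x₀ (Scheme.Cover.hom_ext 𝒰 _ _ fun i => by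
    show (j i).left ≫ x₀ ≫ A.hom = (j i).left ≫ T.hom
    rw [← Category.assoc, hx₀, Over.w, Over.w])
  have hx : ∀ i, j i ≫ x = pt (β i) := fun i => Over.OverMorphism.ext (hx₀ i)
  haveI := fun i => isIso_fib_of_iso (β i).1
  haveI := fun i => isIso_fib_comp (β i).1.hom (proj A L (Ti i))
  have hcompat : ∀ i k (W : Pr.{u}) (a : W ⟶ thetaObj A L (Ti i)) (a' : W ⟶ thetaObj A L (Ti k)),
      IsIso (fib a) → IsIso (fib a') → a ≫ bcLift A L (j i) = a' ≫ bcLift A L (j k) →
      a ≫ (β i).1.hom ≫ proj A L (Ti i) = a' ≫ (β k).1.hom ≫ proj A L (Ti k) := by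
    intro i k W a a' ha ha' e
    have eb : a.base ≫ (A ◁ j i).left = a'.base ≫ (A ◁ j k).left := congrArg CoGrothendieck.Hom.base e
    let wi : W.base ⟶ (Ti i).left := a.base ≫ (snd A (Ti i)).left
    let wk : W.base ⟶ (Ti k).left := a'.base ≫ (snd A (Ti k)).left
    let W' : Over S := Over.mk (wi ≫ (Ti i).hom)
    let a₁ : W' ⟶ Ti i := Over.homMk wi rfl
    have hsnd : wi ≫ (j i).left = wk ≫ (j k).left := by
      have := congrArg (fun z => z ≫ (snd A T).left) eb
      simp only [Category.assoc, ← Over.comp_left, whiskerLeft_snd] at this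
      simpa [wi, wk] using this
    let a₂ : W' ⟶ Ti k := Over.homMk wk (by
      show wk ≫ (Ti k).hom = wi ≫ (Ti i).hom
      rw [← Over.w (j k), ← Over.w (j i), ← Category.assoc, ← hsnd, Category.assoc])
    have h12 : a₁ ≫ j i = a₂ ≫ j k := Over.OverMorphism.ext hsnd
    let Wb : Over S := Over.mk (a.base ≫ (A ⊗ Ti i).hom)
    let ab : Wb ⟶ A ⊗ Ti i := Over.homMk a.base rfl
    let pr : Wb ⟶ W' := Over.homMk (𝟙 _) (by
      show 𝟙 _ ≫ wi ≫ (Ti i).hom = a.base ≫ (A ⊗ Ti i).hom
      rw [Category.id_comp, Category.assoc, Over.w (snd A (Ti i))])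
    let m : Wb ⟶ A ⊗ W' := lift (ab ≫ fst A (Ti i)) pr
    haveI := isIso_fib_comp a (proj A L (Ti i))
    obtain ⟨κ, hκb, hκ, -⟩ := exists_lift (proj A L W') (a ≫ proj A L (Ti i)) m.left
      (congrArg CommaMorphism.left (lift_fst (ab ≫ fst A (Ti i)) pr))
    have hi : a = κ ≫ bcLift A L a₁ := by
      refine cancel (proj A L (Ti i)) ?_ (by rw [Category.assoc, bcLift_proj, hκ])
      show a.base = κ.base ≫ (A ◁ a₁).left
      rw [hκb, ← Over.comp_left]
      refine congrArg CommaMorphism.left (show ab = m ≫ (A ◁ a₁) from ?_)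
      apply CartesianMonoidalCategory.hom_ext
      · simp [m]
      · refine Over.OverMorphism.ext ?_
        simp [m, ab, a₁, pr, wi]
    have hproj : a ≫ proj A L (Ti i) = a' ≫ proj A L (Ti k) := by
      rw [← bcLift_proj A L (j i), ← Category.assoc, e, Category.assoc, bcLift_proj]
    have hk : a' = κ ≫ bcLift A L a₂ := by
      refine cancel (proj A L (Ti k)) ?_ (by rw [Category.assoc, bcLift_proj, hκ, hproj])
      let ab' : Wb ⟶ A ⊗ Ti k := Over.homMk a'.base (by
        show a'.base ≫ (A ⊗ Ti k).hom = a.base ≫ (A ⊗ Ti i).hom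
        rw [← Over.w (A ◁ j k), ← Over.w (A ◁ j i), ← Category.assoc, ← eb, Category.assoc])
      show a'.base = κ.base ≫ (A ◁ a₂).left
      rw [hκb, ← Over.comp_left]
      refine congrArg CommaMorphism.left (show ab' = m ≫ (A ◁ a₂) from ?_)
      apply CartesianMonoidalCategory.hom_ext
      · have := congrArg CoGrothendieck.Hom.base hproj
        refine Over.OverMorphism.ext ?_
        simp [m, ab, ab']
        exact this.symm
      · refine Over.OverMorphism.ext ?_
        simp [m, ab', a₂, pr, wk]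
    calc a ≫ (β i).1.hom ≫ proj A L (Ti i) = κ ≫ (bc a₁ (β i)).1.hom ≫ proj A L W' := by
          rw [hi, Category.assoc, ← reassoc_of% (isBaseChange_bc a₁ (β i)), bcLift_proj]
      _ = κ ≫ (bc a₂ (β k)).1.hom ≫ proj A L W' := by rw [h i k W' a₁ a₂ h12]
      _ = a' ≫ (β k).1.hom ≫ proj A L (Ti k) := by
          rw [hk, Category.assoc, ← reassoc_of% (isBaseChange_bc a₂ (β k)), bcLift_proj]
  obtain ⟨F, hFb, hF, hFj⟩ := exists_glue_hom (fun i => bcLift A L (j i))
    (fun y => exists_mem_bcLift (A := A) (L := L) j hcov y) (fun i => (β i).1.hom ≫ proj A L (Ti i))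
    (transl A x ≫ fst A T).left (fun i => by
      show (A ◁ j i).left ≫ (transl A x ≫ fst A T).left = (β i).1.hom.base ≫ (fst A (Ti i)).left
      rw [isOverPt_pt (β i), ← Over.comp_left, ← Over.comp_left, ← reassoc_of% (whisker_transl A (j i) x),
        whiskerLeft_fst, hx])
    hcompat
  obtain ⟨β₀, hβ₀, hβ₀F⟩ := exists_of_hom x F hFb
  refine ⟨β₀, fun i => ext_proj ?_ ?_⟩
  · rw [pt_bc, isOverPt_iff.1 hβ₀, hx]
  · rw [← hFj i, ← hβ₀F, ← reassoc_of% (isBaseChange_bc (j i) β₀), bcLift_proj]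

end Groth.Agent.ThetaLib
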