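import Groth.Agent.ThetaLib.PrDescent
import Groth.Agent.ThetaLib.Isotropic
import Groth.Agent.ThetaLib.PtsGlue
import Groth.Agent.AVChowLib.Kernel

/-!
# Descent of points of the theta group along a surjective homomorphism
-/

set_option autoImplicit false
set_option backward.isDefEq.respectTransparency false
set_option backward.isDefEq.respectTransparency.types false
set_option linter.style.haveILetI false
set_option maxHeartbeats 1000000

universe u

open CategoryTheory CategoryTheory.Limits MonoidalCategory CartesianMonoidalCategory MonObj AlgebraicGeometry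
open Pseudofunctor Bicategory TopologicalSpace
open scoped commutatorElement

noncomputable section

namespace Groth.Agent.ThetaLib

open ThetaGrp

variable {S : Scheme.{u}} {A B : Over S} {f : A ⟶ B} {M : B.left.Modules}

theorem pullObj_bcLift {T T' : Over S} (g : T' ⟶ T) :
    bcLift A ((Scheme.Modules.pullback f.left).obj M) g ≫ pullObj f M T = pullObj f M T' ≫ bcLift B M g := by
  refine cancel (proj B M T) ?_ ?_
  · show (A ◁ g).left ≫ (pullObj f M T).base = (pullObj f M T').base ≫ (B ◁ g).left
    rw [pullObj_base, pullObj_base, ← Over.comp_left, ← Over.comp_left, MonoidalCategory.whisker_exchange]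
  · rw [Category.assoc, pullObj_proj, ← Category.assoc, bcLift_proj, Category.assoc, bcLift_proj, pullObj_proj]

section Ker

variable [GrpObj A] [GrpObj B] [IsMonHom f] {N : Over S} {i : N ⟶ A}

theorem ker_comp (hN : AlgGrp.IsKernel i f) {T : Over S} (n : T ⟶ N) : n ≫ i ≫ f = 1 := by
  rw [hN.w, Hom.one_def, ← Category.assoc]
  congr 1
  exact CartesianMonoidalCategory.toUnit_unique _ _

theorem exists_ker_lift (hN : AlgGrp.IsKernel i f) {T : Over S} {p p' : T ⟶ A} (h : p ≫ f = p' ≫ f) :
    ∃ n : T ⟶ N, n ≫ i = p⁻¹ * p' := by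
  refine ⟨hN.lift (p⁻¹ * p') (toUnit T) ?_, hN.lift_fst _ _ _⟩
  rw [MonObj.mul_comp, GrpObj.inv_comp, h, inv_mul_cancel, Hom.one_def]

theorem exists_kerPt (hN : AlgGrp.IsKernel i f) {T : Over S} (n : T ⟶ N) :
    ∃ η' : thetaPts A ((Scheme.Modules.pullback f.left).obj M) T, pt η' = n ≫ i ∧
      IsPull (f := f) (L := M) η' 1 := by
  obtain ⟨b, hb, hp⟩ := exists_isPull (f := f) (1 : thetaPts B M T) (n ≫ i)
    (isOverPt_iff.2 (by rw [pt_one, Category.assoc, ker_comp hN]))
  exact ⟨b, isOverPt_iff.1 hb, hp⟩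

/-- The canonical point of the theta group of an inverse image over a point of the kernel. -/
def kerPt (hN : AlgGrp.IsKernel i f) {T : Over S} (n : T ⟶ N) :
    thetaPts A ((Scheme.Modules.pullback f.left).obj M) T :=
  (exists_kerPt hN n).choose

theorem pt_kerPt (hN : AlgGrp.IsKernel i f) {T : Over S} (n : T ⟶ N) : pt (kerPt (M := M) hN n) = n ≫ i :=
  (exists_kerPt hN n).choose_spec.1

theorem isPull_kerPt (hN : AlgGrp.IsKernel i f) {T : Over S} (n : T ⟶ N) :
    IsPull (f := f) (L := M) (kerPt hN n) 1 :=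
  (exists_kerPt hN n).choose_spec.2

theorem kerPt_eq (hN : AlgGrp.IsKernel i f) {T : Over S} (n : T ⟶ N)
    {b : thetaPts A ((Scheme.Modules.pullback f.left).obj M) T} (hb : pt b = n ≫ i) (h : IsPull (f := f) (L := M) b 1) :
    b = kerPt hN n :=
  Subtype.ext (Iso.ext (cancel (pullObj f M T)
    ((isOverPt_pt b).trans ((show pt b = pt (kerPt (M := M) hN n) by rw [hb, pt_kerPt]) ▸
      (isOverPt_pt (kerPt (M := M) hN n)).symm))
    (Eq.trans h (isPull_kerPt hN n).symm)))

/-- A point of the theta group of the inverse image commuting with the kernel descends. -/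
theorem exists_push [Flat f.left] [Surjective f.left] [LocallyOfFinitePresentation f.left]
    (hN : AlgGrp.IsKernel i f) (hM : PicF.IsInvertible M) {T : Over S}
    (β : thetaPts A ((Scheme.Modules.pullback f.left).obj M) T)
    (hcomm : ∀ (T' : Over S) (g : T' ⟶ T) (n : T' ⟶ N), bc g β * kerPt hN n = kerPt hN n * bc g β) :
    ∃ w : thetaPts B M T, pt w = pt β ≫ f := by
  let x := pt β
  let C := pullObj f M T
  haveI : Flat C.base := by rw [pullObj_base]; exact GrpSchLib.property_whiskerRight f T @Flat inferInstance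
  haveI : Surjective C.base := by
    rw [pullObj_base]; exact GrpSchLib.property_whiskerRight f T @Surjective inferInstance
  haveI : LocallyOfFinitePresentation C.base := by
    rw [pullObj_base]; exact GrpSchLib.property_whiskerRight f T @LocallyOfFinitePresentation inferInstance
  let G := β.1.hom ≫ proj A ((Scheme.Modules.pullback f.left).obj M) T ≫ pullBase f M
  haveI := isIso_fib_of_iso β.1
  haveI := isIso_fib_comp (proj A ((Scheme.Modules.pullback f.left).obj M) T) (pullBase f M)
  haveI : IsIso (fib G) := isIso_fib_comp _ _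
  have hb : C.base ≫ (transl B (x ≫ f) ≫ fst B T).left = G.base := by
    show C.base ≫ _ = β.1.hom.base ≫ (fst A T).left ≫ f.left
    rw [pullObj_base, isOverPt_pt β, ← Over.comp_left, ← Over.comp_left, ← Over.comp_left,
      ← reassoc_of% (whiskerRight_transl (f := f) x), whiskerRight_fst]
  obtain ⟨F, hF, hFi, -⟩ := exists_desc (PicClLib.isInvertible_pullback _ hM)
    (PicClLib.isInvertible_pullback _ (PicClLib.isInvertible_pullback _ hM)) hM C G
    (transl B (x ≫ f) ≫ fst B T).left hb fun W a a' ha ha' h => by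
    let Wo : Over S := Over.mk (a.base ≫ (A ⊗ T).hom)
    let p₁ : Wo ⟶ A ⊗ T := Over.homMk a.base rfl
    have hbase : a.base ≫ (f ▷ T).left = a'.base ≫ (f ▷ T).left := by
      have h' : a.base ≫ C.base = a'.base ≫ C.base := congrArg CoGrothendieck.Hom.base h
      rwa [pullObj_base] at h'
    let p₂ : Wo ⟶ A ⊗ T := Over.homMk a'.base (by
      show a'.base ≫ (A ⊗ T).hom = a.base ≫ (A ⊗ T).hom
      rw [← Over.w (f ▷ T), ← Category.assoc, ← hbase, Category.assoc])
    have hp : p₁ ≫ (f ▷ T) = p₂ ≫ (f ▷ T) := Over.OverMorphism.ext hbase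
    have hs : p₁ ≫ snd A T = p₂ ≫ snd A T := by
      simpa [Category.assoc] using congrArg (fun m => m ≫ snd B T) hp
    have hq : (p₁ ≫ fst A T) ≫ f = (p₂ ≫ fst A T) ≫ f := by
      simpa [Category.assoc] using congrArg (fun m => m ≫ fst B T) hp
    let g : Wo ⟶ T := p₁ ≫ snd A T
    obtain ⟨n, hn⟩ := exists_ker_lift hN hq
    let p : Wo ⟶ A := p₁ ≫ fst A T
    have hl : lift p (𝟙 Wo) ≫ (A ◁ g) = p₁ := by
      apply CartesianMonoidalCategory.hom_ext <;> simp [p, g]
    obtain ⟨κ, hκb, hκ, hκi⟩ := exists_lift (bcLift A ((Scheme.Modules.pullback f.left).obj M) g) a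
      (lift p (𝟙 Wo)).left (by
        show (lift p (𝟙 Wo)).left ≫ (A ◁ g).left = a.base
        rw [← Over.comp_left, hl]
        rfl)
    haveI := hκi ha
    let η' := kerPt (M := M) hN n
    have hcomm' : η'.1.hom ≫ (bc g β).1.hom = (bc g β).1.hom ≫ η'.1.hom := by
      have := hcomm Wo g n
      exact congrArg (fun (z : thetaPts A ((Scheme.Modules.pullback f.left).obj M) Wo) => z.1.hom) this
    have hkey : a' = κ ≫ η'.1.hom ≫ bcLift A _ g := by
      refine cancel C ?_ ?_
      · show a'.base = κ.base ≫ η'.1.hom.base ≫ (A ◁ g).left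
        rw [hκb, isOverPt_pt η', pt_kerPt, ← Over.comp_left, ← Over.comp_left]
        show p₂.left = (lift p (𝟙 Wo) ≫ transl A (n ≫ i) ≫ (A ◁ g)).left
        congr 1
        apply CartesianMonoidalCategory.hom_ext
        · simp [MonObj.comp_mul, hn, p]
        · simp [g, hs, reassoc_of% (transl_snd A (n ≫ i))]
      · rw [← h, ← hκ, Category.assoc, Category.assoc, Category.assoc, pullObj_bcLift, ← Category.assoc η'.1.hom]
        have e := isPull_kerPt (M := M) hN n
        unfold IsPull at e
        erw [e]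
        rw [Category.assoc, ← pullObj_bcLift]
        erw [Category.id_comp]
        rw [pullObj_bcLift]
    show a ≫ G = a' ≫ G
    rw [hkey, ← hκ, Category.assoc, Category.assoc, Category.assoc, ← reassoc_of% (isBaseChange_bc g β),
      reassoc_of% hcomm']
    refine congrArg (κ ≫ (bc g β).1.hom ≫ ·) ?_
    rw [reassoc_of% (bcLift_proj A ((Scheme.Modules.pullback f.left).obj M) g), ← pullObj_proj]
    have e := isPull_kerPt (M := M) hN n
    unfold IsPull at e
    rw [← Category.assoc]
    erw [e]
    erw [Category.comp_id]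
  haveI := hFi
  obtain ⟨w, hw, -⟩ := exists_of_hom (x ≫ f) F hF
  exact ⟨w, isOverPt_iff.1 hw⟩

variable [IsCommMonObj A] [IsCommMonObj B]

/-- Lifts of a point over `K(M)` commute with lifts of points of the kernel. -/
theorem comm_of_mumford (hN : AlgGrp.IsKernel i f) (hM : PicF.IsInvertible M) (hA : GammaSnd A) {T : Over S}
    (x : T ⟶ A) (hx : IsMumfordTriv B M (x ≫ f)) (n : T ⟶ N)
    {β₁ β₂ : thetaPts A ((Scheme.Modules.pullback f.left).obj M) T} (h₁ : pt β₁ = x) (h₂ : pt β₂ = n ≫ i) :
    β₁ * β₂ = β₂ * β₁ := by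
  have hM' := PicClLib.isInvertible_pullback f.left hM
  rw [← commutatorElement_eq_one_iff_mul_comm]
  choose U hU w hw using fun t => exists_local_lift hM (x ≫ f) hx t
  haveI : ∀ t, IsOpenImmersion (incl (U t)).left := fun t => inferInstanceAs (IsOpenImmersion (U t).ι)
  refine pts_ext (fun t => incl (U t)) (fun t => ⟨t, ⟨t, hU t⟩, rfl⟩) fun t => ?_
  obtain ⟨b, hb, hp⟩ := exists_isPull (f := f) (w t) (incl (U t) ≫ x) (by rw [Category.assoc]; exact hw t)
  let η' := kerPt (M := M) hN (incl (U t) ≫ n)
  have hp' : IsPull (f := f) (L := M) ⁅b, η'⁆ ⁅w t, 1⁆ := by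
    rw [commutatorElement_def, commutatorElement_def]
    have hk := isPull_kerPt (M := M) hN (incl (U t) ≫ n)
    exact isPull_mul (isPull_mul (isPull_mul hp hk) (isPull_inv hp)) (isPull_inv hk)
  rw [commutatorElement_one_right] at hp'
  have h := isScal_of_isPull hM hA (comm_overOne b η') hp' isScal_one
  rw [map_one, bc_comm, comm_congr₂ hM' hA (show pt (bc (incl (U t)) β₁) = pt b by
      rw [pt_bc, h₁, isOverPt_iff.1 hb])
    (show pt (bc (incl (U t)) β₂) = pt η' by rw [pt_bc, h₂, pt_kerPt, Category.assoc])]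
  exact eq_one_of_isScal h

end Ker

theorem flat_lfp {k : Type u} [Field k] {A B : Over (Spec (CommRingCat.of k))} [GrpObj A] [IsProper A.hom]
    [GrpObj B] [IsProper B.hom] [GeometricallyIntegral B.hom] (f : A ⟶ B) [IsMonHom f] [Surjective f.left] :
    Flat f.left ∧ LocallyOfFinitePresentation f.left := by
  obtain ⟨hp, hfl⟩ := AVChowLib.flat_hom f
  haveI : IsLocallyNoetherian B.left := LocallyOfFiniteType.isLocallyNoetherian B.hom
  exact ⟨hfl, inferInstance⟩

end Groth.Agent.ThetaLib
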