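import Groth.Agent.ThetaLib.CocycleAlg
import Mathlib.AlgebraicGeometry.Group.Affine
import Mathlib.AlgebraicGeometry.Morphisms.Finite

/-!
# Symmetric cocycles of a finite commutative group scheme in the multiplicative group split
-/

set_option autoImplicit false
set_option backward.isDefEq.respectTransparency false
set_option backward.isDefEq.respectTransparency.types false
set_option linter.style.haveILetI false
set_option maxHeartbeats 1000000

universe u

open CategoryTheory CategoryTheory.Limits MonoidalCategory CartesianMonoidalCategory AlgebraicGeometry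
open Opposite
open scoped MonObj TensorProduct

noncomputable section

namespace Groth.Agent.ThetaLib

variable {k : Type u} [Field k]

/-- The scheme over `k` of an algebra. -/
abbrev aOb (R : CommAlgCat.{u} (CommRingCat.of k)) : Over (Spec (CommRingCat.of k)) :=
  (algSpec (CommRingCat.of k)).obj (op R)

/-- The morphism of schemes over `k` of a homomorphism of algebras. -/
abbrev aMap {R R' : CommAlgCat.{u} (CommRingCat.of k)} (g : R →ₐ[CommRingCat.of k] R') : aOb R' ⟶ aOb R :=
  (algSpec (CommRingCat.of k)).map (CommAlgCat.ofHom g).op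

theorem aMap_comp {R R' R'' : CommAlgCat.{u} (CommRingCat.of k)} (g : R →ₐ[CommRingCat.of k] R')
    (h : R' →ₐ[CommRingCat.of k] R'') : aMap h ≫ aMap g = aMap (h.comp g) := by
  rw [← Functor.map_comp]
  rfl

/-- The functions on the scheme of an algebra. -/
def fnR (R : CommAlgCat.{u} (CommRingCat.of k)) : Γ((aOb R).left, ⊤) →+* R :=
  (Scheme.ΓSpecIso (CommRingCat.of R)).hom.hom

theorem fnR_bijective (R : CommAlgCat.{u} (CommRingCat.of k)) : Function.Bijective (fnR R) :=
  ConcreteCategory.bijective_of_isIso (Scheme.ΓSpecIso (CommRingCat.of R)).hom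

theorem fnR_natural {R R' : CommAlgCat.{u} (CommRingCat.of k)} (g : R →ₐ[CommRingCat.of k] R')
    (a : Γ((aOb R).left, ⊤)) : fnR R' ((aMap g).left.appTop a) = g (fnR R a) := by
  have h := ConcreteCategory.congr_hom (Scheme.ΓSpecIso_naturality (CommRingCat.ofHom g.toRingHom)) a
  rw [CategoryTheory.comp_apply, CategoryTheory.comp_apply] at h
  exact h

theorem appTop_comp_apply {X Y Z : Over (Spec (CommRingCat.of k))} (f : X ⟶ Y) (g : Y ⟶ Z)
    (a : Γ(Z.left, ⊤)) : (f ≫ g).left.appTop a = f.left.appTop (g.left.appTop a) := by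
  rw [Over.comp_left, Scheme.Hom.comp_appTop]
  rfl

theorem tmul₃_left {R A : Type u} [CommRing R] [CommRing A] [Algebra R A] (p q b : A) :
    (p ⊗ₜ[R] (q ⊗ₜ[R] b) : A ⊗[R] (A ⊗[R] A)) = p ⊗ₜ 1 * (1 : A) ⊗ₜ (q ⊗ₜ 1) * (1 : A) ⊗ₜ ((1 : A) ⊗ₜ b) := by
  simp

theorem tmul₃_right {R A : Type u} [CommRing R] [CommRing A] [Algebra R A] (a p q : A) :
    (a ⊗ₜ[R] (p ⊗ₜ[R] q) : A ⊗[R] (A ⊗[R] A)) = a ⊗ₜ 1 * ((1 : A) ⊗ₜ (p ⊗ₜ 1) * (1 : A) ⊗ₜ ((1 : A) ⊗ₜ q)) := by
  simp

variable [IsAlgClosed k] {N : Over (Spec (CommRingCat.of k))} [GrpObj N] [IsFinite N.hom]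

/-- **Extensions of a finite commutative group scheme by the multiplicative group split**, in the form of
cocycles: over an algebraically closed field a symmetric cocycle on the points of the group with values in units
is the coboundary of a unit. -/
theorem exists_split (c : ∀ {T : Over (Spec (CommRingCat.of k))}, (T ⟶ N) → (T ⟶ N) → Γ(T.left, ⊤))
    (hu : ∀ {T : Over (Spec (CommRingCat.of k))} (n m : T ⟶ N), IsUnit (c n m))
    (hnat : ∀ {T T' : Over (Spec (CommRingCat.of k))} (g : T' ⟶ T) (n m : T ⟶ N), g.left.appTop (c n m) = c (g ≫ n) (g ≫ m))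
    (hsymm : ∀ {T : Over (Spec (CommRingCat.of k))} (n m : T ⟶ N), c n m = c m n)
    (hcoc : ∀ {T : Over (Spec (CommRingCat.of k))} (n m l : T ⟶ N), c n m * c (n * m) l = c m l * c n (m * l))
    (hcommN : ∀ {T : Over (Spec (CommRingCat.of k))} (n m : T ⟶ N), n * m = m * n) :
    ∃ a : Γ(N.left, ⊤), IsUnit a ∧ ∀ {T : Over (Spec (CommRingCat.of k))} (n m : T ⟶ N),
      n.left.appTop a * m.left.appTop a = c n m * (n * m).left.appTop a := by
  haveI : IsAffine (Spec (CommRingCat.of k)) := inferInstance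
  haveI : IsAffine N.left := isAffine_of_isAffineHom N.hom
  haveI : IsAlgClosed (CommRingCat.of k) := ‹IsAlgClosed k›
  obtain ⟨⟨C⟩, ⟨e⟩⟩ := (essImage_algSpec (R := CommRingCat.of k) (G := N)).2 inferInstance
  haveI : IsFinite (aOb C).hom := by
    rw [← Over.w e.hom]
    haveI : IsIso e.hom.left := ((Over.forget _).mapIso e).isIso_hom
    infer_instance
  haveI hfin : Module.Finite (CommRingCat.of k) C := by
    have h : IsFinite (Spec.map (CommRingCat.ofHom (algebraMap (CommRingCat.of k) C))) := by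
      rwa [← algSpec_obj_hom (X := op C)]
    exact RingHom.finite_algebraMap.1 ((IsFinite.SpecMap_iff _).1 h)
  let P : ∀ {R : CommAlgCat.{u} (CommRingCat.of k)}, (C →ₐ[CommRingCat.of k] R) → (aOb R ⟶ N) :=
    fun g => aMap g ≫ e.hom
  have Pinj : ∀ {R : CommAlgCat.{u} (CommRingCat.of k)} {g g' : C →ₐ[CommRingCat.of k] R}, P g = P g' → g = g' :=
    fun {R g g'} h => by
      have h1 : aMap g = aMap g' := (cancel_mono e.hom).1 h
      exact congrArg (fun z => z.unop.hom) ((algSpec.fullyFaithful (R := CommRingCat.of k)).map_injective h1)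
  have Psurj : ∀ {R : CommAlgCat.{u} (CommRingCat.of k)} (n : aOb R ⟶ N), ∃ g, P g = n := fun {R} n => by
    let ff := algSpec.fullyFaithful (R := CommRingCat.of k)
    obtain ⟨z, hz⟩ : ∃ z, (algSpec (CommRingCat.of k)).map z = n ≫ e.inv :=
      ⟨ff.preimage (n ≫ e.inv), ff.map_preimage _⟩
    refine ⟨z.unop.hom, ?_⟩
    show (algSpec (CommRingCat.of k)).map z ≫ e.hom = n
    rw [hz, Category.assoc, e.inv_hom_id, Category.comp_id]
  have Pnat : ∀ {R R' : CommAlgCat.{u} (CommRingCat.of k)} (g : R →ₐ[CommRingCat.of k] R')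
      (φ : C →ₐ[CommRingCat.of k] R), aMap g ≫ P φ = P (g.comp φ) := fun g φ => by
    show aMap g ≫ aMap φ ≫ e.hom = aMap _ ≫ e.hom
    rw [← Category.assoc, aMap_comp]
  -- the comultiplication
  let C₂ : CommAlgCat.{u} (CommRingCat.of k) := CommAlgCat.of _ (C ⊗[CommRingCat.of k] C)
  let i₁ : C →ₐ[CommRingCat.of k] C₂ := Algebra.TensorProduct.includeLeft
  let i₂ : C →ₐ[CommRingCat.of k] C₂ := Algebra.TensorProduct.includeRight
  obtain ⟨Δ, hΔ⟩ := Psurj (P i₁ * P i₂)
  let lf : ∀ {R : CommAlgCat.{u} (CommRingCat.of k)}, (C →ₐ[CommRingCat.of k] R) → (C →ₐ[CommRingCat.of k] R) →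
      (C₂ →ₐ[CommRingCat.of k] R) := fun φ ψ => Algebra.TensorProduct.lift φ ψ fun _ _ => Commute.all _ _
  have lf₁ : ∀ {R : CommAlgCat.{u} (CommRingCat.of k)} (φ ψ : C →ₐ[CommRingCat.of k] R), (lf φ ψ).comp i₁ = φ :=
    fun φ ψ => Algebra.TensorProduct.lift_comp_includeLeft _ _ fun _ _ => Commute.all _ _
  have lf₂ : ∀ {R : CommAlgCat.{u} (CommRingCat.of k)} (φ ψ : C →ₐ[CommRingCat.of k] R), (lf φ ψ).comp i₂ = ψ :=
    fun φ ψ => Algebra.TensorProduct.lift_comp_includeRight _ _ fun _ _ => Commute.all _ _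
  have hadd : ∀ {R : CommAlgCat.{u} (CommRingCat.of k)} (φ ψ : C →ₐ[CommRingCat.of k] R),
      P φ * P ψ = P ((lf φ ψ).comp Δ) := fun φ ψ => by
    rw [← Pnat, hΔ, MonObj.comp_mul, Pnat, Pnat, lf₁, lf₂]
  -- the cocycle
  let c₀ : C₂ := fnR C₂ (c (P i₁) (P i₂))
  have hc₀ : IsUnit c₀ := (hu _ _).map (fnR C₂)
  have hc : ∀ {R : CommAlgCat.{u} (CommRingCat.of k)} (φ ψ : C →ₐ[CommRingCat.of k] R),
      fnR R (c (P φ) (P ψ)) = lf φ ψ c₀ := fun φ ψ => by
    rw [show c (P φ) (P ψ) = (aMap (lf φ ψ)).left.appTop (c (P i₁) (P i₂)) by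
      rw [hnat, Pnat, Pnat, lf₁, lf₂], fnR_natural]
  let D : C →ₗ[CommRingCat.of k] (C ⊗[CommRingCat.of k] C) :=
    LinearMap.mulLeft (CommRingCat.of k) (c₀ : C ⊗[CommRingCat.of k] C) ∘ₗ Δ.toLinearMap
  have hDapp : ∀ f, D f = c₀ * Δ f := fun f => rfl
  -- the counit
  let K₀ : CommAlgCat.{u} (CommRingCat.of k) := CommAlgCat.of _ (CommRingCat.of k)
  obtain ⟨ε, hε⟩ := Psurj (1 : aOb K₀ ⟶ N)
  let ε' : ∀ (R : CommAlgCat.{u} (CommRingCat.of k)), C →ₐ[CommRingCat.of k] R :=
    fun R => (Algebra.ofId (CommRingCat.of k) R).comp ε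
  have hε' : ∀ (R : CommAlgCat.{u} (CommRingCat.of k)), P (ε' R) = 1 := fun R =>
    (Pnat (R := K₀) (R' := R) (Algebra.ofId (CommRingCat.of k) R) ε).symm.trans (by rw [hε, MonObj.comp_one])
  haveI : Nontrivial C := ε.toRingHom.domain_nontrivial
  -- symmetry
  have hDcomm : ∀ f, TensorProduct.comm (CommRingCat.of k) C C (D f) = D f := fun f => by
    have hsw : (Algebra.TensorProduct.comm (CommRingCat.of k) C C).toAlgHom =
        (lf i₂ i₁ : C₂ →ₐ[CommRingCat.of k] C₂) := Algebra.TensorProduct.ext' fun a b => by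
      refine Eq.trans ?_ (Algebra.TensorProduct.lift_tmul i₂ i₁ (fun _ _ => Commute.all _ _) a b).symm
      refine Eq.trans ?_ (Algebra.TensorProduct.tmul_mul_tmul (1 : C) b a (1 : C)).symm
      rw [_root_.one_mul, _root_.mul_one]
      rfl
    have h1 : (lf i₂ i₁).comp Δ = Δ := Pinj (by rw [← hadd, hΔ, hcommN])
    have h2 : lf i₂ i₁ c₀ = c₀ := by rw [← hc, hsymm]
    show (Algebra.TensorProduct.comm (CommRingCat.of k) C C).toAlgHom (D f) = D f
    rw [hsw, hDapp, map_mul, h2, show lf i₂ i₁ (Δ f) = Δ f from AlgHom.congr_fun h1 f]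
  -- associativity
  let C₃ : CommAlgCat.{u} (CommRingCat.of k) :=
    CommAlgCat.of _ (C ⊗[CommRingCat.of k] (C ⊗[CommRingCat.of k] C))
  let j₁ : C →ₐ[CommRingCat.of k] C₃ := Algebra.TensorProduct.includeLeft
  let r : C₂ →ₐ[CommRingCat.of k] C₃ := Algebra.TensorProduct.includeRight
  let j₂ : C →ₐ[CommRingCat.of k] C₃ := r.comp i₁
  let j₃ : C →ₐ[CommRingCat.of k] C₃ := r.comp i₂
  have hDassoc : ∀ f, TensorProduct.assoc (CommRingCat.of k) C C C (D.rTensor C (D f)) = D.lTensor C (D f) :=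
    fun f => by
      have hL : ∀ X : C₂, TensorProduct.assoc (CommRingCat.of k) C C C (D.rTensor C X) =
          (lf j₁ j₂ c₀ * lf ((lf j₁ j₂).comp Δ) j₃ X : C₃) := fun X => by
        induction X using TensorProduct.induction_on with
        | zero => simp
        | add x y hx hy => simp only [map_add, hx, hy, mul_add]
        | tmul a b =>
          rw [LinearMap.rTensor_tmul, hDapp]
          have hA : ∀ Y : C₂, TensorProduct.assoc (CommRingCat.of k) C C C ((Y : C ⊗[CommRingCat.of k] C) ⊗ₜ b) =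
              (lf j₁ j₂ Y * j₃ b : C₃) := fun Y => by
            induction Y using TensorProduct.induction_on with
            | zero => simp
            | add x y hx hy => simp only [TensorProduct.add_tmul, map_add, hx, hy, add_mul]
            | tmul p q =>
              rw [show lf j₁ j₂ (p ⊗ₜ q) = j₁ p * j₂ q from
                Algebra.TensorProduct.lift_tmul j₁ j₂ (fun _ _ => Commute.all _ _) p q]
              exact tmul₃_left p q b
          refine (hA (c₀ * Δ a)).trans ?_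
          rw [map_mul, mul_assoc]
          congr 1
      have hR : ∀ X : C₂, D.lTensor C X = (lf j₂ j₃ c₀ * lf j₁ ((lf j₂ j₃).comp Δ) X : C₃) := fun X => by
        induction X using TensorProduct.induction_on with
        | zero => simp
        | add x y hx hy => simp only [map_add, hx, hy, mul_add]
        | tmul a b =>
          rw [LinearMap.lTensor_tmul, hDapp]
          have hA : ∀ Y : C₂, ((a ⊗ₜ (Y : C ⊗[CommRingCat.of k] C)) : C₃) = j₁ a * lf j₂ j₃ Y := fun Y => by
            induction Y using TensorProduct.induction_on with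
            | zero => simp
            | add x y hx hy => rw [map_add, mul_add, ← hx, ← hy]; exact TensorProduct.tmul_add a x y
            | tmul p q =>
              rw [show lf j₂ j₃ (p ⊗ₜ q) = j₂ p * j₃ q from
                Algebra.TensorProduct.lift_tmul j₂ j₃ (fun _ _ => Commute.all _ _) p q]
              exact tmul₃_right a p q
          refine (hA (c₀ * Δ b)).trans ?_
          rw [map_mul, mul_left_comm]
          congr 1
      refine (hL _).trans (Eq.trans ?_ (hR _).symm)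
      rw [hDapp, map_mul, map_mul, ← mul_assoc, ← mul_assoc]
      have h1 : (lf ((lf j₁ j₂).comp Δ) j₃).comp Δ = (lf j₁ ((lf j₂ j₃).comp Δ)).comp Δ := Pinj (by
        rw [← hadd, ← hadd, ← hadd, ← hadd, mul_assoc])
      have h2 : lf j₁ j₂ c₀ * lf ((lf j₁ j₂).comp Δ) j₃ c₀ = lf j₂ j₃ c₀ * lf j₁ ((lf j₂ j₃).comp Δ) c₀ := by
        rw [← hc, ← hc, ← hc, ← hc, ← map_mul, ← map_mul, ← hadd, ← hadd, hcoc]
      rw [show lf ((lf j₁ j₂).comp Δ) j₃ (Δ f) = lf j₁ ((lf j₂ j₃).comp Δ) (Δ f) from AlgHom.congr_fun h1 f, h2]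
  -- injectivity
  let idC : C →ₐ[CommRingCat.of k] C := AlgHom.id _ _
  have hD : Function.Injective D := fun f f' h => by
    rw [hDapp, hDapp] at h
    have h1 : (lf idC (ε' C)).comp Δ = idC := Pinj (by rw [← hadd, hε', _root_.mul_one])
    have h2 := congrArg (lf idC (ε' C)) (hc₀.mul_left_cancel h)
    exact (AlgHom.congr_fun h1 f).symm.trans (h2.trans (AlgHom.congr_fun h1 f'))
  obtain ⟨x, hx0, hx⟩ := exists_grouplike D hDcomm hDassoc hD
  have hxR : ∀ {R : CommAlgCat.{u} (CommRingCat.of k)} (φ ψ : C →ₐ[CommRingCat.of k] R),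
      φ x * ψ x = lf φ ψ c₀ * (lf φ ψ).comp Δ x := fun φ ψ => by
    have h := congrArg (lf φ ψ) hx
    rw [hDapp] at h
    rw [AlgHom.comp_apply, ← map_mul, h]
    exact (Algebra.TensorProduct.lift_tmul _ _ _ _ _).symm
  -- invertibility
  have hεx : ε x ≠ 0 := fun h0 => hx0 (by
    have h := hxR idC (ε' C)
    have h1 : (lf idC (ε' C)).comp Δ = idC := Pinj (by rw [← hadd, hε', _root_.mul_one])
    rw [h1, show ε' C x = 0 from (congrArg (Algebra.ofId (CommRingCat.of k) C) h0).trans (map_zero _), mul_zero] at h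
    exact (hc₀.map (lf idC (ε' C))).mul_right_eq_zero.1 h.symm)
  have hxu : IsUnit x := by
    obtain ⟨iv, hiv⟩ := Psurj (P idC)⁻¹
    have h := hxR idC iv
    have h1 : (lf idC iv).comp Δ = ε' C := Pinj (by rw [← hadd, hiv, hε', mul_inv_cancel])
    rw [h1] at h
    refine isUnit_of_mul_isUnit_left (y := iv x) (h ▸ ?_)
    exact (hc₀.map _).mul ((isUnit_iff_ne_zero.2 hεx).map (Algebra.ofId (CommRingCat.of k) C))
  obtain ⟨xs, hxs⟩ := (fnR_bijective C).2 x
  have hxsu : IsUnit xs :=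
    (isUnit_map_iff (RingEquiv.ofBijective (fnR C) (fnR_bijective C)) xs).1 (hxs ▸ hxu :)
  let a : Γ(N.left, ⊤) := e.inv.left.appTop xs
  refine ⟨a, hxsu.map e.inv.left.appTop.hom, fun {T} n m => ?_⟩
  -- affine case
  have haff : ∀ {R : CommAlgCat.{u} (CommRingCat.of k)} (n m : aOb R ⟶ N),
      n.left.appTop a * m.left.appTop a = c n m * (n * m).left.appTop a := fun {R} n m => by
    have ha : ∀ φ : C →ₐ[CommRingCat.of k] R, fnR R ((P φ).left.appTop a) = φ x := fun φ => by
      show fnR R ((aMap φ ≫ e.hom).left.appTop (e.inv.left.appTop xs)) = φ x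
      rw [← appTop_comp_apply, Category.assoc, e.hom_inv_id, Category.comp_id, fnR_natural, hxs]
    obtain ⟨φ, rfl⟩ := Psurj n
    obtain ⟨ψ, rfl⟩ := Psurj m
    refine (fnR_bijective R).1 ?_
    rw [map_mul, map_mul, ha, ha, hadd, ha, hc, hxR]
  -- reduction to the product
  clear_value a
  haveI : IsAffine (N ⊗ N).left := inferInstanceAs (IsAffine (pullback N.hom N.hom))
  obtain ⟨⟨R⟩, ⟨e₂⟩⟩ := (essImage_algSpec (R := CommRingCat.of k) (G := N ⊗ N)).2 inferInstance
  have h := congrArg ((lift n m ≫ e₂.inv).left.appTop) (haff (e₂.hom ≫ fst N N) (e₂.hom ≫ snd N N))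
  rw [map_mul, map_mul, hnat, ← appTop_comp_apply, ← appTop_comp_apply, ← appTop_comp_apply, MonObj.comp_mul] at h
  simpa only [Category.assoc, Iso.inv_hom_id_assoc, lift_fst, lift_snd] using h

end Groth.Agent.ThetaLib
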