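import Groth.Agent.InvX.GenLocusPull
import Groth.Agent.HilbPoly.Simple

/-!
# Endomorphisms of invertible modules are multiplications by functions
-/

set_option autoImplicit false
set_option backward.isDefEq.respectTransparency false
set_option backward.isDefEq.respectTransparency.types false
set_option linter.style.haveILetI false

universe u

open CategoryTheory AlgebraicGeometry TopologicalSpace Opposite

noncomputable section

namespace Groth.Agent.ThetaLib

open AModX HilbPoly

variable {X Y : Scheme.{u}} {M N : X.Modules}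

theorem smulG_app' (M : X.Modules) (a : Γ(X, ⊤)) (U : X.Opens) (m : Γ(M, U)) :
    (smulG M a).app U m = resR (le_top : U ≤ ⊤) a • m := rfl

theorem smulG_one (M : X.Modules) : smulG M 1 = 𝟙 M := by
  refine Scheme.Modules.hom_ext _ _ fun U => ?_
  ext m
  exact (smulG_app' M 1 U m).trans (by rw [map_one, one_smul]; rfl)

theorem smulG_mul (M : X.Modules) (a b : Γ(X, ⊤)) : smulG M (a * b) = smulG M b ≫ smulG M a := by
  refine Scheme.Modules.hom_ext _ _ fun U => ?_
  ext m
  show (smulG M (a * b)).app U m = (smulG M a).app U ((smulG M b).app U m)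
  rw [smulG_app', smulG_app', smulG_app', map_mul, mul_smul]

/-- Multiplications commute with all morphisms. -/
theorem smulG_naturality (φ : M ⟶ N) (a : Γ(X, ⊤)) : smulG M a ≫ φ = φ ≫ smulG N a := by
  refine Scheme.Modules.hom_ext _ _ fun U => ?_
  ext m
  show φ.app U ((smulG M a).app U m) = (smulG N a).app U (φ.app U m)
  rw [smulG_app', smulG_app', Scheme.Modules.Hom.app_smul]

/-- Multiplication is compatible with inverse images. -/
theorem map_smulG (f : Y ⟶ X) (hM : PicF.IsInvertible M) (a : Γ(X, ⊤)) :
    (Scheme.Modules.pullback f).map (smulG M a) = smulG _ (f.appTop a) := by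
  choose U hx e he using InvX.exists_frame hM
  refine InvX.hom_ext_of_frames (fun x => f ⁻¹ᵁ U x) (fun y => ⟨f y, hx (f y)⟩)
    (fun x => InvX.pullElt f (e x)) (fun x => InvX.isFrame_pullElt f (he x)) fun x => ?_
  rw [InvX.map_pullElt, smulG_app', InvX.pullElt_smul, smulG_app']
  congr 1
  exact congr($(Scheme.Hom.naturality f (homOfLE (le_top : U x ≤ ⊤)).op) a)

theorem smulG_injective (hM : PicF.IsInvertible M) {a b : Γ(X, ⊤)} (h : smulG M a = smulG M b) : a = b := by
  choose U hx e he using InvX.exists_frame hM
  refine X.sheaf.eq_of_locally_eq' (fun x => U x) ⊤ (fun x => homOfLE le_top)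
    (fun p _ => Opens.mem_iSup.mpr ⟨p, hx p⟩) a b fun x => ?_
  have h1 := congr(($h).app (U x) (e x))
  rw [smulG_app', smulG_app'] at h1
  exact (he x).coord_unique le_rfl (by rw [res_self]; exact h1)

/-- Every endomorphism of an invertible module is a multiplication. -/
theorem exists_eq_smulG (hM : PicF.IsInvertible M) (φ : M ⟶ M) : ∃ a : Γ(X, ⊤), φ = smulG M a := by
  choose U hx e he using InvX.exists_frame hM
  choose c hc using fun x => (he x).exists_coord le_rfl (φ.app (U x) (e x))
  simp only [res_self] at hc
  have hW : ∀ x y : X, resR (inf_le_left : U x ⊓ U y ≤ U x) (c x) = resR inf_le_right (c y) := by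
    intro x y
    obtain ⟨r, hr⟩ := (he x).exists_coord inf_le_left (res M (inf_le_right : U x ⊓ U y ≤ U y) (e y))
    refine ((he y).res inf_le_right).coord_unique le_rfl ?_
    simp only [res_self]
    calc resR inf_le_left (c x) • res M inf_le_right (e y)
        = r • res M inf_le_left (c x • e x) := by rw [hr, smul_comm, res_smul]
      _ = φ.app _ (res M inf_le_right (e y)) := by
        rw [← hc, ← app_res, hr, Scheme.Modules.Hom.app_smul]
      _ = resR inf_le_right (c y) • res M inf_le_right (e y) := by rw [app_res, hc, res_smul]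
  obtain ⟨a, ha, -⟩ := X.sheaf.existsUnique_gluing' (fun x => U x) ⊤ (fun x => homOfLE le_top)
    (fun p _ => Opens.mem_iSup.mpr ⟨p, hx p⟩) c hW
  refine ⟨a, InvX.hom_ext_of_frames (fun x => U x) (fun p => ⟨p, hx p⟩) e he fun x => ?_⟩
  rw [smulG_app', hc, show resR (le_top : U x ≤ ⊤) a = c x from ha x]

/-- The coefficient of an endomorphism of an invertible module. -/
def coeff (hM : PicF.IsInvertible M) (φ : M ⟶ M) : Γ(X, ⊤) := (exists_eq_smulG hM φ).choose

theorem smulG_coeff (hM : PicF.IsInvertible M) (φ : M ⟶ M) : smulG M (coeff hM φ) = φ :=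
  (exists_eq_smulG hM φ).choose_spec.symm

theorem coeff_smulG (hM : PicF.IsInvertible M) (a : Γ(X, ⊤)) : coeff hM (smulG M a) = a :=
  smulG_injective hM (smulG_coeff hM _)

end Groth.Agent.ThetaLib
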