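import Groth.Agent.ThetaLib.GrpRep

/-!
# Representability of the theta group
-/

set_option autoImplicit false
set_option backward.isDefEq.respectTransparency false
set_option backward.isDefEq.respectTransparency.types false
set_option linter.style.haveILetI false
set_option maxHeartbeats 1000000

universe u

open CategoryTheory CategoryTheory.Limits MonoidalCategory CartesianMonoidalCategory MonObj AlgebraicGeometry
open Pseudofunctor Bicategory Opposite

noncomputable section

namespace Groth.Agent.ThetaLib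

open ThetaGrp

variable {S : Scheme.{u}} {A : Over S} [GrpObj A] {L : A.left.Modules} (hL : PicF.IsInvertible L)
  (hA : GammaSnd A) {K : Over S} {i : K ⟶ A} (hK : IsKL A L i)

include hK in
theorem cancel_i {T : Over S} {y y' : T ⟶ K} (h : y ≫ i = y' ≫ i) : y = y' := by
  haveI := hK.closed
  exact Over.OverMorphism.ext ((cancel_mono i.left).1 (congrArg CommaMorphism.left h))

include hL hK in
theorem exists_toK {T : Over S} (β : thetaPts A L T) : ∃ y : T ⟶ K, y ≫ i = pt β :=
  (hK.univ T (pt β)).1 (mumford_of_overPt hL β (isOverPt_pt β))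

/-- The point of `K(L)` under a point of the theta group. -/
def toK {T : Over S} (β : thetaPts A L T) : T ⟶ K := (exists_toK hL hK β).choose

theorem toK_spec {T : Over S} (β : thetaPts A L T) : toK hL hK β ≫ i = pt β := (exists_toK hL hK β).choose_spec

theorem toK_eq {T : Over S} {β : thetaPts A L T} {y : T ⟶ K} (h : y ≫ i = pt β) : toK hL hK β = y :=
  cancel_i hK ((toK_spec hL hK β).trans h.symm)

variable (A L i) in
/-- The opens of `K(L)` carrying a lift. -/
abbrev Idx : Type u := {W : K.left.Opens // ∃ δ : thetaPts A L (sub W), IsOverPt δ (incl W ≫ i)}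

/-- The chosen lift. -/
def lft (W : Idx A L i) : thetaPts A L (sub W.1) := W.2.choose

theorem pt_lft (W : Idx A L i) : pt (lft W) = incl W.1 ≫ i := isOverPt_iff.1 W.2.choose_spec

/-- The coordinate function. -/
abbrev crd (W : Idx A L i) : Γ(𝔸(PUnit.{u + 1}; W.1.toScheme), ⊤) := AffineSpace.coord _ PUnit.unit

/-- The chart: an open of `K(L)` times the multiplicative group. -/
abbrev Chart (W : Idx A L i) : Scheme.{u} := (𝔸(PUnit.{u + 1}; W.1.toScheme)).basicOpen (crd W)

/-- The projection of the chart. -/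
abbrev chartProj (W : Idx A L i) : Chart W ⟶ W.1.toScheme :=
  ((𝔸(PUnit.{u + 1}; W.1.toScheme)).basicOpen (crd W)).ι ≫ 𝔸(PUnit.{u + 1}; W.1.toScheme) ↘ W.1.toScheme

/-- The chart as a scheme over the base. -/
abbrev chartOb (W : Idx A L i) : Over S := Over.mk (chartProj W ≫ W.1.ι ≫ K.hom)

/-- The projection over the base. -/
abbrev chartHom (W : Idx A L i) : chartOb W ⟶ sub W.1 := Over.homMk (chartProj W) rfl

theorem isUnit_crd (W : Idx A L i) :
    IsUnit (((𝔸(PUnit.{u + 1}; W.1.toScheme)).basicOpen (crd W)).ι.appTop (crd W)) := by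
  refine isUnit_of_basicOpen_eq_top _ ?_
  rw [← Scheme.preimage_basicOpen_top, Scheme.Opens.ι_preimage_self]

/-- The invertible coordinate. -/
def unitCrd (W : Idx A L i) : (Γ((chartOb W).left, ⊤))ˣ := (isUnit_crd W).unit

/-- The universal point over the chart. -/
def chartPt (W : Idx A L i) : thetaPts A L (chartOb W) := scalPt hL (unitCrd W) * bc (chartHom W) (lft W)

/-- The universal element over the chart. -/
def chartElt (W : Idx A L i) : (fun' A L).obj (op (Chart W)) := ⟨chartProj W ≫ W.1.ι ≫ K.hom, chartPt hL W⟩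

theorem pt_chartPt (W : Idx A L i) : pt (chartPt hL W) = chartHom W ≫ incl W.1 ≫ i := by
  rw [chartPt, pt_mul, pt_bc, pt_lft, isOverPt_iff.1 (isOverPt_of_isScal (isScal_scalPt hL _)), _root_.mul_one]

theorem bc_chartPt {W : Idx A L i} {T : Over S} (r : T ⟶ chartOb W) :
    bc r (chartPt hL W) =
      scalPt hL (Units.map r.left.appTop.hom.toMonoidHom (unitCrd W)) * bc (r ≫ chartHom W) (lft W) := by
  rw [chartPt, map_mul, bc_scalPt, bc_comp]

include hL hA hK in
theorem chart_inj {W : Idx A L i} {T : Over S} {r r' : T ⟶ chartOb W}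
    (h : bc r (chartPt hL W) = bc r' (chartPt hL W)) : r = r' := by
  have hp := congrArg pt h
  rw [pt_bc, pt_bc, pt_chartPt] at hp
  have hy : r ≫ chartHom W = r' ≫ chartHom W := by
    have h1 : r ≫ chartHom W ≫ incl W.1 = r' ≫ chartHom W ≫ incl W.1 := cancel_i hK (by simpa using hp)
    refine Over.OverMorphism.ext ((cancel_mono W.1.ι).1 ?_)
    simpa using congrArg CommaMorphism.left h1
  rw [bc_chartPt, bc_chartPt, hy] at h
  have ha := congrArg Units.val (scalPt_injective hL hA (mul_right_cancel h))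
  refine Over.OverMorphism.ext ((cancel_mono ((𝔸(PUnit.{u + 1}; W.1.toScheme)).basicOpen (crd W)).ι).1
    (AffineSpace.hom_ext ?_ fun _ => ?_))
  · simpa [chartProj] using congrArg CommaMorphism.left hy
  · rw [Scheme.Hom.comp_appTop, Scheme.Hom.comp_appTop]
    exact ha

include hA in
theorem chart_surj {W : Idx A L i} {T : Over S} (β : thetaPts A L T)
    (hW : Set.range (toK hL hK β).left ⊆ W.1) : ∃ r : T ⟶ chartOb W, bc r (chartPt hL W) = β := by
  let y : T ⟶ sub W.1 := Over.homMk (IsOpenImmersion.lift W.1.ι (toK hL hK β).left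
    (hW.trans (Scheme.Opens.range_ι W.1).ge)) (by
      show _ ≫ W.1.ι ≫ K.hom = T.hom
      rw [IsOpenImmersion.lift_fac_assoc, Over.w])
  have hy : y ≫ incl W.1 = toK hL hK β := Over.OverMorphism.ext (IsOpenImmersion.lift_fac _ _ _)
  obtain ⟨a, ha⟩ := exists_eq_scalPt hL hA (β * (bc y (lft W))⁻¹) (isOverPt_iff.2 (by
    rw [pt_mul, pt_inv, pt_bc, pt_lft, ← Category.assoc, hy, toK_spec, inv_mul_cancel]))
  let y₀ : T.left ⟶ W.1.toScheme := y.left
  let v : T.left ⟶ 𝔸(PUnit.{u + 1}; W.1.toScheme) := AffineSpace.homOfVector y₀ fun _ => (a : Γ(T.left, ⊤))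
  let D := (𝔸(PUnit.{u + 1}; W.1.toScheme)).basicOpen (crd W)
  have hv : Set.range v ⊆ Set.range D.ι := by
    rw [Scheme.Opens.range_ι]
    rintro _ ⟨z, rfl⟩
    show z ∈ v ⁻¹ᵁ D
    rw [Scheme.preimage_basicOpen_top, AffineSpace.homOfVector_appTop_coord, Scheme.basicOpen_of_isUnit _ a.isUnit]
    trivial
  let r : T ⟶ chartOb W := Over.homMk (IsOpenImmersion.lift D.ι v hv) (by
    show IsOpenImmersion.lift D.ι v hv ≫ (D.ι ≫ _) ≫ W.1.ι ≫ K.hom = T.hom
    rw [Category.assoc D.ι, IsOpenImmersion.lift_fac_assoc, AffineSpace.homOfVector_over_assoc]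
    exact Over.w y)
  have hr : r ≫ chartHom W = y := Over.OverMorphism.ext (by
    show IsOpenImmersion.lift D.ι v hv ≫ D.ι ≫ _ = y.left
    rw [IsOpenImmersion.lift_fac_assoc]
    exact AffineSpace.homOfVector_over _ _)
  have hru : Units.map r.left.appTop.hom.toMonoidHom (unitCrd W) = a := Units.ext (by
    show r.left.appTop (D.ι.appTop (crd W)) = _
    erw [← CategoryTheory.comp_apply, ← Scheme.Hom.comp_appTop]
    rw [show r.left ≫ D.ι = v from IsOpenImmersion.lift_fac _ _ _]
    exact AffineSpace.homOfVector_appTop_coord _ _ _)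
  refine ⟨r, ?_⟩
  rw [bc_chartPt, hr, hru, ← ha, inv_mul_cancel_right]

theorem map_chartElt {W : Idx A L i} {Z : Scheme.{u}} (r : Z ⟶ Chart W) {t : Z ⟶ S}
    {β : thetaPts A L (Over.mk t)} :
    (fun' A L).map r.op (chartElt hL W) = ⟨t, β⟩ ↔
      ∃ e : r ≫ chartProj W ≫ W.1.ι ≫ K.hom = t, bc (Over.homMk r e : Over.mk t ⟶ chartOb W) (chartPt hL W) = β := by
  show (⟨r ≫ chartProj W ≫ W.1.ι ≫ K.hom, bc (Over.homMk r rfl) (chartPt hL W)⟩ :
    Σ t : Z ⟶ S, thetaPts A L (Over.mk t)) = ⟨t, β⟩ ↔ _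
  constructor
  · intro h
    obtain ⟨rfl, h⟩ := Sigma.mk.inj h
    exact ⟨rfl, eq_of_heq h⟩
  · rintro ⟨rfl, h⟩
    rw [← h]

theorem map_injective (hL : PicF.IsInvertible L) (hA : GammaSnd A) (hK : IsKL A L i) {W : Idx A L i}
    {Z : Scheme.{u}} {r r' : Z ⟶ Chart W}
    (h : (fun' A L).map r.op (chartElt hL W) = (fun' A L).map r'.op (chartElt hL W)) : r = r' := by
  obtain ⟨e, he⟩ := map_eq_map.1 h
  exact congrArg CommaMorphism.left (chart_inj hL hA hK (W := W) he)

include hA hK in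
theorem isOpenImmersion_chart (W : Idx A L i) :
    IsOpenImmersion.presheaf (yonedaEquiv.symm (chartElt hL W) : yoneda.obj (Chart W) ⟶ fun' A L) := by
  refine MorphismProperty.relative.of_exists fun T g => ?_
  obtain ⟨⟨t, β⟩, hg⟩ : ∃ p : (fun' A L).obj (op T), yonedaEquiv g = p := ⟨_, rfl⟩
  let y : Over.mk t ⟶ K := toK hL hK β
  let O : T.Opens := y.left ⁻¹ᵁ W.1
  let o : Over.mk (O.ι ≫ t) ⟶ Over.mk t := Over.homMk O.ι rfl
  have ho : toK hL hK (bc o β) = o ≫ y := toK_eq hL hK (by rw [Category.assoc, toK_spec, pt_bc])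
  obtain ⟨r, hr⟩ := chart_surj hL hA hK (W := W) (bc o β) (by
    rw [ho]; rintro _ ⟨z, rfl⟩; exact z.2)
  have hfst : (fun' A L).map r.left.op (chartElt hL W) = (fun' A L).map O.ι.op ⟨t, β⟩ :=
    (map_chartElt hL (t := O.ι ≫ t) r.left (β := bc o β)).2 ⟨Over.w r, hr⟩
  have hgapp : ∀ (R : Scheme.{u}) (z : R ⟶ T), g.app (op R) z = (fun' A L).map z.op ⟨t, β⟩ := fun R z => by
    rw [← hg, map_yonedaEquiv]
  refine ⟨O.toScheme, yoneda.map r.left, O.ι, ?_, inferInstance⟩
  have hw : yoneda.map r.left ≫ yonedaEquiv.symm (chartElt hL W) = yoneda.map O.ι ≫ g := by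
    apply yonedaEquiv.injective
    rw [← yonedaEquiv_naturality, ← yonedaEquiv_naturality, Equiv.apply_symm_apply, hg]
    exact hfst
  refine IsPullback.of_isLimit' ⟨hw⟩ ?_
  have hrange : ∀ (s : PullbackCone (yonedaEquiv.symm (chartElt hL W)) g) (R : Scheme.{u}ᵒᵖ) (z : s.pt.obj R),
      Set.range (show R.unop ⟶ T from s.snd.app R z) ⊆ Set.range O.ι := by
    intro s R z
    let r₁ : R.unop ⟶ Chart W := s.fst.app R z
    let r₂ : R.unop ⟶ T := s.snd.app R z
    have h : (fun' A L).map r₁.op (chartElt hL W) = (fun' A L).map r₂.op ⟨t, β⟩ := by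
      have := ConcreteCategory.congr_hom (NatTrans.congr_app s.condition R) z
      rw [← hgapp]
      exact this
    obtain ⟨e, he⟩ := (map_chartElt hL r₁ (t := r₂ ≫ t)
      (β := bc (Over.homMk r₂ rfl : Over.mk (r₂ ≫ t) ⟶ Over.mk t) β)).1 h
    have hp := congrArg pt he
    rw [pt_bc, pt_bc, pt_chartPt] at hp
    have h1 : (Over.homMk r₂ rfl : Over.mk (r₂ ≫ t) ⟶ Over.mk t) ≫ y =
        (Over.homMk r₁ e : Over.mk (r₂ ≫ t) ⟶ chartOb W) ≫ chartHom W ≫ incl W.1 :=
      cancel_i hK (by rw [Category.assoc, toK_spec, ← hp]; simp only [Category.assoc])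
    rw [Scheme.Opens.range_ι]
    rintro _ ⟨w, rfl⟩
    show y.left (r₂ w) ∈ W.1
    have h2 := congr($(congrArg CommaMorphism.left h1) w)
    rw [show y.left (r₂ w) = _ from h2]
    exact (chartProj W (r₁ w)).2
  refine PullbackCone.IsLimit.mk hw
    (fun s => { app := fun R => TypeCat.ofHom fun z => IsOpenImmersion.lift O.ι (s.snd.app R z) (hrange s R z)
                naturality := fun R R' m => by
                  refine ConcreteCategory.hom_ext _ _ fun z => ?_
                  refine (cancel_mono O.ι).1 ?_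
                  show IsOpenImmersion.lift O.ι _ _ ≫ O.ι = (m.unop ≫ IsOpenImmersion.lift O.ι _ _) ≫ O.ι
                  rw [Category.assoc, IsOpenImmersion.lift_fac, IsOpenImmersion.lift_fac]
                  exact ConcreteCategory.congr_hom (s.snd.naturality m) z })
    (fun s => ?_) (fun s => ?_) fun s m h1 h2 => ?_
  · ext R z
    refine map_injective hL hA hK ?_
    show (fun' A L).map (IsOpenImmersion.lift O.ι _ (hrange s R z) ≫ r.left).op (chartElt hL W) = _
    rw [op_comp, Functor.map_comp_apply]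
    refine (congrArg _ hfst).trans ?_
    erw [← Functor.map_comp_apply, ← op_comp, IsOpenImmersion.lift_fac, ← hgapp]
    exact (ConcreteCategory.congr_hom (NatTrans.congr_app s.condition R) z).symm
  · ext R z
    exact IsOpenImmersion.lift_fac _ _ _
  · ext R z
    refine (cancel_mono O.ι).1 ?_
    show _ = IsOpenImmersion.lift O.ι _ _ ≫ O.ι
    rw [IsOpenImmersion.lift_fac]
    exact ConcreteCategory.congr_hom (NatTrans.congr_app h2 R) z

include hA hK in
theorem isLocallySurjective_charts :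
    Presheaf.IsLocallySurjective Scheme.zariskiTopology
      (Sigma.desc fun W : Idx A L i => (yonedaEquiv.symm (chartElt hL W) : yoneda.obj (Chart W) ⟶ fun' A L)) := by
  refine ⟨fun {U} p => ?_⟩
  obtain ⟨t, β⟩ := p
  let y : Over.mk t ⟶ K := toK hL hK β
  choose W hW δ hδ using fun k : K.left => exists_local_lift hL i ((hK.univ K i).2 ⟨𝟙 K, Category.id_comp i⟩) k
  let O : U → U.Opens := fun z => y.left ⁻¹ᵁ W (y.left z)
  let 𝒰 := U.openCoverOfIsOpenCover O (TopologicalSpace.IsOpenCover.mk (eq_top_iff.2 fun z _ =>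
    TopologicalSpace.Opens.mem_iSup.2 ⟨z, hW _⟩))
  refine GrothendieckTopology.superset_covering _ ?_ 𝒰.mem_grothendieckTopology
  rintro V g ⟨W', a, _, ⟨z⟩, rfl⟩
  let I : Idx A L i := ⟨W (y.left z), δ _, hδ _⟩
  let o : Over.mk ((O z).ι ≫ t) ⟶ Over.mk t := Over.homMk (O z).ι rfl
  have ho : toK hL hK (bc o β) = o ≫ y := toK_eq hL hK (by rw [Category.assoc, toK_spec, pt_bc])
  obtain ⟨r, hr⟩ := chart_surj hL hA hK (W := I) (bc o β) (by
    rw [ho]; rintro _ ⟨w, rfl⟩; exact w.2)
  have hfst : (fun' A L).map r.left.op (chartElt hL I) = (fun' A L).map (O z).ι.op ⟨t, β⟩ :=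
    (map_chartElt hL (t := (O z).ι ≫ t) r.left (β := bc o β)).2 ⟨Over.w r, hr⟩
  refine ⟨(Sigma.ι (fun W : Idx A L i => yoneda.obj (Chart W)) I).app (op V) (a ≫ r.left), ?_⟩
  rw [← CategoryTheory.comp_apply, ← NatTrans.comp_app, Sigma.ι_desc]
  show (fun' A L).map (a ≫ r.left).op (chartElt hL I) = (fun' A L).map (a ≫ (O z).ι).op ⟨t, β⟩
  rw [op_comp, Functor.map_comp_apply, op_comp, Functor.map_comp_apply]
  exact congrArg _ hfst

/-- The group functor. -/
def grpFun (A : Over S) [GrpObj A] (L : A.left.Modules) : (Over S)ᵒᵖ ⥤ GrpCat.{u} where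
  obj T := GrpCat.of (thetaPts A L T.unop)
  map g := GrpCat.ofHom (bc g.unop)
  map_id T := GrpCat.hom_ext (MonoidHom.ext fun β => bc_id β)
  map_comp g h := GrpCat.hom_ext (MonoidHom.ext fun β => (bc_comp g.unop h.unop β).symm)

include hL hA hK in
theorem exists_isThetaGrpSch :
    ∃ (G : Over S) (_ : GrpObj G) (u : thetaPts A L G), IsThetaGrpSch A L G u := by
  let F : Sheaf Scheme.zariskiTopology.{u} (Type u) := ⟨fun' A L, isSheaf_fun'⟩
  haveI := isLocallySurjective_charts hL hA hK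
  obtain ⟨G₀, ⟨R⟩⟩ := Scheme.LocalRepresentability.isRepresentable (F := F)
    (f := fun W : Idx A L i => yonedaEquiv.symm (chartElt hL W)) fun W => isOpenImmersion_chart hL hA hK W
  obtain ⟨⟨tG, u⟩, hu⟩ : ∃ p : (fun' A L).obj (op G₀), R.homEquiv (𝟙 G₀) = p := ⟨_, rfl⟩
  let G : Over S := Over.mk tG
  have hR : ∀ {Z : Scheme.{u}} (g : Z ⟶ G₀), R.homEquiv g = (fun' A L).map g.op ⟨tG, u⟩ := fun g => by
    have := R.homEquiv_eq g
    rw [hu] at this
    exact this
  have hbij : ∀ (T : Over S), Function.Bijective fun g : T ⟶ G => bc g u := fun T => by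
    constructor
    · intro g g' h
      refine Over.OverMorphism.ext (R.homEquiv.injective ?_)
      rw [hR, hR, map_eq_map]
      refine ⟨(Over.w g).trans (Over.w g').symm, ?_⟩
      have h1 := congrArg (bc (Over.homMk (𝟙 _) (by show 𝟙 _ ≫ T.hom = g.left ≫ tG; rw [Category.id_comp]; exact (Over.w g).symm) : Over.mk (g.left ≫ tG) ⟶ T)) h
      simp only [bc_comp] at h1
      convert h1 using 3 <;> exact Over.OverMorphism.ext (Category.id_comp _).symm
    · intro β
      obtain ⟨r, hr⟩ := R.homEquiv.surjective (⟨T.hom, β⟩ : Σ t : T.left ⟶ S, thetaPts A L (Over.mk t))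
      rw [hR] at hr
      obtain ⟨e, he⟩ := map_eq_iff.1 (show (⟨r ≫ tG, bc (Over.homMk r rfl) u⟩ :
        Σ t : T.left ⟶ S, thetaPts A L (Over.mk t)) = ⟨T.hom, β⟩ from hr)
      refine ⟨Over.homMk r e, ?_⟩
      have h1 := congrArg (bc (Over.homMk (𝟙 _) (by simp [e]) : Over.mk T.hom ⟶ Over.mk (r ≫ tG))) he
      rw [bc_comp, bc_comp] at h1
      rw [show (_ ≫ _ : Over.mk T.hom ⟶ Over.mk T.hom) = 𝟙 _ from Over.OverMorphism.ext (Category.id_comp _),
        bc_id] at h1
      rw [h1]
      congr 2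
  let α : (grpFun A L ⋙ forget _).RepresentableBy G :=
    { homEquiv := fun {T} => Equiv.ofBijective _ (hbij T)
      homEquiv_comp := fun {T T'} f g => (bc_comp g f u).symm }
  letI := GrpObj.ofRepresentableBy G _ α
  have hmul : ∀ (T : Over S) (g h : T ⟶ G), bc (g * h) u = bc g u * bc h u := fun T g h =>
    map_mul ((yonedaGrpObjIsoOfRepresentableBy G (grpFun A L) α).hom.app (op T)).hom g h
  refine ⟨G, GrpObj.ofRepresentableBy G _ α, u, ?_, ?_, ?_⟩
  · intro T β
    obtain ⟨g, hg⟩ := (hbij T).2 β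
    exact ⟨g, hg ▸ isBaseChange_bc g u, fun g' hg' => (hbij T).1 ((eq_bc hg').symm.trans hg.symm)⟩
  · exact fun T g => ⟨bc g u, isBaseChange_bc g u, fun β hβ => eq_bc hβ⟩
  · intro T g h β₁ β₂ h₁ h₂
    rw [eq_bc h₁, eq_bc h₂, ← hmul]
    exact isBaseChange_bc _ _

end Groth.Agent.ThetaLib
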