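import Groth.Agent.ThetaLib.GrpScheme
import Groth.Agent.ThetaLib.KLExists

/-!
# A scheme representing the theta group is of finite type
-/

set_option autoImplicit false
set_option backward.isDefEq.respectTransparency false
set_option backward.isDefEq.respectTransparency.types false
set_option linter.style.haveILetI false
set_option linter.unusedSectionVars false
set_option maxHeartbeats 1000000

universe u

open CategoryTheory CategoryTheory.Limits MonoidalCategory CartesianMonoidalCategory MonObj AlgebraicGeometry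
open Opposite

noncomputable section

namespace Groth.Agent.ThetaLib

open ThetaGrp

variable {S : Scheme.{u}} {A : Over S} [GrpObj A] {L : A.left.Modules} (hL : PicF.IsInvertible L)
  (hA : GammaSnd A) {K : Over S} {i : K ⟶ A} (hK : IsKL A L i)
  {G : Over S} [GrpObj G] {gu : thetaPts A L G} (hG : IsThetaGrpSch A L G gu)

include hG in
theorem bc_injective {T : Over S} {g g' : T ⟶ G} (h : bc g gu = bc g' gu) : g = g' :=
  (hG.univ T _).unique (isBaseChange_bc g gu) (h ▸ isBaseChange_bc g' gu)

include hG in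
theorem exists_eq_bc {T : Over S} (β : thetaPts A L T) : ∃ g : T ⟶ G, bc g gu = β := by
  obtain ⟨g, hg, -⟩ := hG.univ T β
  exact ⟨g, (eq_bc hg).symm⟩

include hL hA hK hG in
/-- The chart over an open of `K(L)` with a lift is the open of `G` over it. -/
theorem exists_chart_iso (W : Idx A L i) :
    Nonempty (chartOb W ≅ Over.mk (((toK hL hK gu).left ⁻¹ᵁ W.1).ι ≫ G.hom)) := by
  let O := (toK hL hK gu).left ⁻¹ᵁ W.1
  let o : Over.mk (O.ι ≫ G.hom) ⟶ G := Over.homMk O.ι rfl
  have ho : toK hL hK (bc o gu) = o ≫ toK hL hK gu :=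
    toK_eq hL hK (by rw [Category.assoc, toK_spec, pt_bc])
  obtain ⟨r, hr⟩ := chart_surj hL hA hK (W := W) (bc o gu) (by
    rw [ho]
    rintro _ ⟨z, rfl⟩
    exact z.2)
  obtain ⟨c, hc⟩ := exists_eq_bc hG (chartPt hL W)
  have hcK : c ≫ toK hL hK gu = chartHom W ≫ incl W.1 :=
    cancel_i hK (by
      rw [Category.assoc, toK_spec, ← pt_bc, hc, pt_chartPt]
      simp only [Category.assoc])
  have hrange : Set.range c.left ⊆ Set.range O.ι := by
    rw [Scheme.Opens.range_ι]
    rintro _ ⟨z, rfl⟩
    have h := congr($(congrArg CommaMorphism.left hcK) z)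
    show (toK hL hK gu).left (c.left z) ∈ W.1
    rw [show (toK hL hK gu).left (c.left z) = _ from h]
    exact (chartProj W z).2
  let c' : chartOb W ⟶ Over.mk (O.ι ≫ G.hom) := Over.homMk (IsOpenImmersion.lift O.ι c.left hrange)
    (by
      show _ ≫ O.ι ≫ G.hom = _
      rw [IsOpenImmersion.lift_fac_assoc]
      exact Over.w c)
  have hco : c' ≫ o = c := Over.OverMorphism.ext (IsOpenImmersion.lift_fac _ _ _)
  refine ⟨⟨c', r, ?_, ?_⟩⟩
  · refine chart_inj hL hA hK ?_
    rw [← bc_comp, hr, bc_comp, hco, hc, bc_id]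
  · have h : r ≫ c = o := bc_injective hG (by rw [← bc_comp, hc, hr])
    refine Over.OverMorphism.ext ((cancel_mono O.ι).1 ?_)
    rw [Over.id_left, Category.id_comp, Over.comp_left, Category.assoc]
    show r.left ≫ (c' ≫ o).left = o.left
    rw [hco, ← Over.comp_left, h]

include hL hA hK hG in
theorem locallyOfFiniteType_thetaGrp [LocallyOfFiniteType K.hom] : LocallyOfFiniteType G.hom := by
  choose W hW δ hδ using fun x : K.left => exists_local_lift hL i ((hK.univ K i).2 ⟨𝟙 K, Category.id_comp i⟩) x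
  refine IsZariskiLocalAtSource.of_iSup_eq_top (P := @LocallyOfFiniteType)
    (fun x : K.left => (toK hL hK gu).left ⁻¹ᵁ W x)
    (eq_top_iff.2 fun z _ => TopologicalSpace.Opens.mem_iSup.2 ⟨_, hW ((toK hL hK gu).left z)⟩) fun x => ?_
  obtain ⟨e⟩ := exists_chart_iso hL hA hK hG (⟨W x, δ x, hδ x⟩ : Idx A L i)
  haveI : IsIso e.inv.left := ((Over.forget S).mapIso e).isIso_inv
  have h : ((toK hL hK gu).left ⁻¹ᵁ W x).ι ≫ G.hom =
      e.inv.left ≫ chartProj (⟨W x, δ x, hδ x⟩ : Idx A L i) ≫ (W x).ι ≫ K.hom := (Over.w e.inv).symm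
  rw [h]
  infer_instance

include hL hA hK hG in
theorem compactSpace_thetaGrp [CompactSpace K.left] : CompactSpace G.left := by
  choose W hW δ hδ using fun x : K.left => exists_local_lift hL i ((hK.univ K i).2 ⟨𝟙 K, Category.id_comp i⟩) x
  obtain ⟨U, hU, hUW⟩ : ∃ U : K.left → K.left.Opens, (∀ x, IsAffineOpen (U x) ∧ x ∈ U x) ∧ ∀ x, U x ≤ W x := by
    choose U hU hxU hUW using fun x : K.left =>
      exists_isAffineOpen_mem_and_subset (X := K.left) (x := x) (U := W x) (hW x)
    exact ⟨U, fun x => ⟨hU x, hxU x⟩, hUW⟩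
  have hlift : ∀ x, ∃ δ' : thetaPts A L (sub (U x)), IsOverPt δ' (incl (U x) ≫ i) := fun x => by
    let v : sub (U x) ⟶ sub (W x) := Over.homMk (K.left.homOfLE (hUW x)) (by simp)
    refine ⟨bc v (δ x), isOverPt_iff.2 ?_⟩
    rw [pt_bc, isOverPt_iff.1 (hδ x), ← Category.assoc]
    congr 1
    exact Over.OverMorphism.ext (K.left.homOfLE_ι (hUW x))
  obtain ⟨t, ht⟩ := CompactSpace.elim_nhds_subcover (fun x => (U x : Set K.left))
    fun x => (U x).isOpen.mem_nhds (hU x).2
  have hcpt : ∀ x, IsCompact (((toK hL hK gu).left ⁻¹ᵁ U x : G.left.Opens) : Set G.left) := fun x => by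
    let I : Idx A L i := ⟨U x, hlift x⟩
    obtain ⟨e⟩ := exists_chart_iso hL hA hK hG I
    haveI : IsAffine (U x).toScheme := (hU x).1
    haveI : CompactSpace (U x).toScheme := inferInstance
    haveI : IsAffine (Chart I) :=
      ((isAffineOpen_top (𝔸(PUnit.{u + 1}; (U x).toScheme))).basicOpen (crd I))
    haveI : CompactSpace (Chart I) := inferInstance
    haveI : IsIso e.hom.left := ((Over.forget S).mapIso e).isIso_hom
    haveI : Surjective e.hom.left := inferInstance
    haveI : CompactSpace (chartOb I).left := inferInstanceAs (CompactSpace (Chart I))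
    have : CompactSpace ((toK hL hK gu).left ⁻¹ᵁ U x).toScheme :=
      e.hom.left.surjective.compactSpace e.hom.left.continuous
    exact isCompact_iff_compactSpace.2 this
  refine ⟨?_⟩
  have h := t.finite_toSet.isCompact_biUnion fun x _ => hcpt x
  convert h
  refine (Set.eq_univ_of_forall fun z => ?_).symm
  obtain ⟨x, hx, hzx⟩ := Set.mem_iUnion₂.1 (ht.ge (Set.mem_univ ((toK hL hK gu).left z)))
  exact Set.mem_iUnion₂.2 ⟨x, hx, hzx⟩

end Groth.Agent.ThetaLib
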