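import Groth.Agent.ThetaLib.Descend
import Groth.Agent.ThetaLib.GrpRep
import Groth.Prelude.Def_AgPol

/-!
# The normalised action of `K(L)` on the Mumford bundle
-/

set_option autoImplicit false
set_option backward.isDefEq.respectTransparency false
set_option backward.isDefEq.respectTransparency.types false
set_option linter.style.haveILetI false
set_option maxHeartbeats 1000000

universe u

open CategoryTheory CategoryTheory.Limits MonoidalCategory CartesianMonoidalCategory MonObj AlgebraicGeometry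
open Pseudofunctor

noncomputable section

namespace Groth.Agent.ThetaLib

open ThetaGrp
open scoped Groth.Agent.H23.PicMul

variable {S : Scheme.{u}}

theorem gammaSnd_tensor {A : Over S} (hA : GammaSnd A) : GammaSnd (A ⊗ A) := fun T => by
  have e : snd (A ⊗ A) T = (α_ A A T).hom ≫ snd A (A ⊗ T) ≫ snd A T := by simp
  rw [e, Over.comp_left, Over.comp_left, Scheme.Hom.comp_appTop, Scheme.Hom.comp_appTop]
  haveI : IsIso (α_ A A T).hom.left := inferInstanceAs (IsIso ((Over.forget S).map (α_ A A T).hom))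
  have h := (ConcreteCategory.bijective_of_isIso (α_ A A T).hom.left.appTop).comp ((hA (A ⊗ T)).comp (hA T))
  exact h

variable {A : Over S} [GrpObj A]

/-- The first axis. -/
abbrev axis (A : Over S) [GrpObj A] : A ⟶ A ⊗ A := lift (𝟙 A) 1

theorem axis_comp {T : Over S} (x : T ⟶ A) : x ≫ axis A = lift x 1 := by
  rw [comp_lift, Category.comp_id, MonObj.comp_one]

theorem axis_mul [IsCommMonObj A] {T : Over S} (x y : T ⟶ A) : (x * y) ≫ axis A = (x ≫ axis A) * (y ≫ axis A) := by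
  apply CartesianMonoidalCategory.hom_ext
  · rw [axis_comp, axis_comp, axis_comp, lift_fst, MonObj.mul_comp, lift_fst, lift_fst]
  · rw [axis_comp, axis_comp, axis_comp, lift_snd, MonObj.mul_comp, lift_snd, lift_snd, _root_.one_mul]

theorem axis_one {T : Over S} : (1 : T ⟶ A) ≫ axis A = 1 := by
  apply CartesianMonoidalCategory.hom_ext
  · rw [axis_comp, lift_fst, MonObj.one_comp]
  · rw [axis_comp, lift_snd, MonObj.one_comp]

instance isMonHom_axis [IsCommMonObj A] : IsMonHom (axis A) := by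
  refine ⟨?_, ?_⟩
  · have e := axis_one (A := A) (T := 𝟙_ (Over S))
    rw [Hom.one_def, Hom.one_def, toUnit_unique (toUnit (𝟙_ (Over S))) (𝟙 _), Category.id_comp,
      Category.id_comp] at e
    exact e
  · have e := axis_mul (fst A A) (snd A A)
    rw [Hom.mul_def, Hom.mul_def, lift_fst_snd, Category.id_comp, ← lift_map, lift_fst_snd, Category.id_comp] at e
    exact e

variable [IsCommMonObj A] {L : A.left.Modules} {Λ : (A ⊗ A).left.Modules}

section Class

variable [Subsingleton S] [Nonempty S]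

theorem cl_axis_eq_one (hL : PicF.IsInvertible L)
    (hΛ : AgPol.IsLambdaSheaf μ[A].left (fst A A).left (snd A A).left L Λ) :
    PicF.pullCl (axis A).left (PicF.cl Λ) = 1 := by
  have h := (PicGrp.cl_eq_cl_iff _ _).2 hΛ
  rw [H23.PicMul.cl_tensor, H23.PicMul.cl_tensor] at h
  change PicF.cl Λ * PicF.pullCl (fst A A).left (PicF.cl L) * PicF.pullCl (snd A A).left (PicF.cl L) =
    PicF.pullCl μ[A].left (PicF.cl L) at h
  have h' := congrArg (PicF.pullCl (axis A).left) h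
  rw [H23.PicMul.pullCl_mul, H23.PicMul.pullCl_mul, PicClLib.pullCl_comp, PicClLib.pullCl_comp,
    PicClLib.pullCl_comp, ← Over.comp_left, ← Over.comp_left, ← Over.comp_left, lift_fst, lift_snd,
    ← Hom.mul_def, _root_.mul_one, H23.KLBasic.pull_one hL, _root_.mul_one, Over.id_left, PicClLib.pullCl_id] at h'
  exact (H23.PicMul.isUnit_cl hL).mul_right_cancel (h'.trans (_root_.one_mul _).symm)

theorem cl_transl_axis (hL : PicF.IsInvertible L)
    (hΛ : AgPol.IsLambdaSheaf μ[A].left (fst A A).left (snd A A).left L Λ) {T : Over S} (x : T ⟶ A)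
    (hx : IsMumfordTriv A L x) :
    PicF.pullCl (transl (A ⊗ A) (x ≫ axis A) ≫ fst (A ⊗ A) T).left (PicF.cl Λ) =
      PicF.pullCl (fst (A ⊗ A) T).left (PicF.cl Λ) := by
  obtain ⟨c, -, hc⟩ := (H23.KLBasic.mumford_iff hL x).1 hx
  let R := (A ⊗ A) ⊗ T
  let t : R ⟶ T := snd (A ⊗ A) T
  let P : (R ⟶ A) → PicF.Cl R.left := fun z => PicF.pullCl z.left (PicF.cl L)
  let c' := PicF.pullCl t.left c
  have hP : ∀ z : R ⟶ A, P (z * (t ≫ x)) = P z * c' := fun z => by
    have h := congrArg (PicF.pullCl (lift z t).left) hc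
    rw [H23.PicMul.pullCl_mul, PicClLib.pullCl_comp, PicClLib.pullCl_comp, PicClLib.pullCl_comp, ← Over.comp_left,
      ← Over.comp_left, ← Over.comp_left, lift_fst, lift_snd, transl_fst, MonObj.comp_mul, lift_fst,
      lift_snd_assoc] at h
    exact h
  have h := (PicGrp.cl_eq_cl_iff _ _).2 hΛ
  rw [H23.PicMul.cl_tensor, H23.PicMul.cl_tensor] at h
  change PicF.cl Λ * PicF.pullCl (fst A A).left (PicF.cl L) * PicF.pullCl (snd A A).left (PicF.cl L) =
    PicF.pullCl μ[A].left (PicF.cl L) at h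
  have hq : ∀ q : R ⟶ A ⊗ A, PicF.pullCl q.left (PicF.cl Λ) * P (q ≫ fst A A) * P (q ≫ snd A A) =
      P ((q ≫ fst A A) * (q ≫ snd A A)) := fun q => by
    have h' := congrArg (PicF.pullCl q.left) h
    rw [H23.PicMul.pullCl_mul, H23.PicMul.pullCl_mul, PicClLib.pullCl_comp, PicClLib.pullCl_comp,
      PicClLib.pullCl_comp, ← Over.comp_left, ← Over.comp_left, ← Over.comp_left] at h'
    rw [Hom.mul_def, ← comp_lift, lift_fst_snd, Category.comp_id]
    exact h'
  have h₁ := hq (transl (A ⊗ A) (x ≫ axis A) ≫ fst (A ⊗ A) T)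
  have h₀ := hq (fst (A ⊗ A) T)
  have ea : (transl (A ⊗ A) (x ≫ axis A) ≫ fst (A ⊗ A) T) ≫ fst A A = (fst (A ⊗ A) T ≫ fst A A) * (t ≫ x) := by
    rw [transl_fst, MonObj.mul_comp, Category.assoc, Category.assoc, lift_fst, Category.comp_id]
  have eb : (transl (A ⊗ A) (x ≫ axis A) ≫ fst (A ⊗ A) T) ≫ snd A A = fst (A ⊗ A) T ≫ snd A A := by
    rw [transl_fst, MonObj.mul_comp, Category.assoc, Category.assoc, lift_snd, MonObj.comp_one, MonObj.comp_one,
      _root_.mul_one]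
  rw [ea, eb, mul_right_comm (fst (A ⊗ A) T ≫ fst A A) (t ≫ x), hP, hP, ← h₀] at h₁
  have hu : IsUnit (P (fst (A ⊗ A) T ≫ fst A A) * c' * P (fst (A ⊗ A) T ≫ snd A A)) := by
    rw [← hP]
    exact (H23.PicMul.isUnit_cl (PicClLib.isInvertible_pullback _ hL)).mul
      (H23.PicMul.isUnit_cl (PicClLib.isInvertible_pullback _ hL))
  refine hu.mul_right_cancel ?_
  rw [← _root_.mul_assoc, ← _root_.mul_assoc, ← _root_.mul_assoc, ← _root_.mul_assoc]
  rw [← _root_.mul_assoc] at h₁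
  rw [h₁]
  ac_rfl

end Class

/-- The axis as a pair over the trivial pair of the base. -/
abbrev axisPr (A : Over S) [GrpObj A] (Λ : (A ⊗ A).left.Modules) : Pr.{u} :=
  basePr A ((Scheme.Modules.pullback (axis A).left).obj Λ)

/-- A normalised lift of `(x, 1)`. -/
def IsNormLift (ψ : axisPr A Λ ⟶ (⟨S, Coh.structureModule S⟩ : Pr.{u})) {T : Over S} (x : T ⟶ A)
    (β : thetaPts (A ⊗ A) Λ T) : Prop :=
  pt β = x ≫ axis A ∧ ∃ b : thetaPts A ((Scheme.Modules.pullback (axis A).left).obj Λ) T,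
    pt b = x ∧ IsPull (f := axis A) (L := Λ) b β ∧
      b.1.hom ≫ proj A ((Scheme.Modules.pullback (axis A).left).obj Λ) T ≫ ψ =
        proj A ((Scheme.Modules.pullback (axis A).left).obj Λ) T ≫ ψ

variable {ψ : axisPr A Λ ⟶ (⟨S, Coh.structureModule S⟩ : Pr.{u})}

theorem IsNormLift.mul {T : Over S} {x y : T ⟶ A} {β δ : thetaPts (A ⊗ A) Λ T} (h : IsNormLift ψ x β)
    (h' : IsNormLift ψ y δ) : IsNormLift ψ (x * y) (β * δ) := by
  obtain ⟨h1, b, hb1, hb2, hb3⟩ := h
  obtain ⟨h1', d, hd1, hd2, hd3⟩ := h'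
  refine ⟨by rw [pt_mul, h1, h1', ← MonObj.mul_comp, mul_comm], b * d, by rw [pt_mul, hb1, hd1, mul_comm],
    isPull_mul hb2 hd2, ?_⟩
  rw [mul_hom, Category.assoc, hb3, hd3]

theorem IsNormLift.unique (hΛ : PicF.IsInvertible Λ) (hA : GammaSnd A) [IsIso (fib ψ)] {T : Over S} {x : T ⟶ A}
    {β δ : thetaPts (A ⊗ A) Λ T} (h : IsNormLift ψ x β) (h' : IsNormLift ψ x δ) : β = δ := by
  obtain ⟨h1, b, hb1, hb2, hb3⟩ := h
  obtain ⟨h1', d, hd1, hd2, hd3⟩ := h'
  have hA2 := gammaSnd_tensor hA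
  obtain ⟨c, hc⟩ := exists_isScal hΛ hA2 (β * δ⁻¹) (isOverPt_iff.2 (by rw [pt_mul, pt_inv, h1, h1', inv_mul_cancel]))
  have hs := isScal_of_isPull hΛ hA (β := b * d⁻¹)
    (isOverPt_iff.2 (by rw [pt_mul, pt_inv, hb1, hd1, inv_mul_cancel])) (isPull_mul hb2 (isPull_inv hd2)) hc
  have h3 : (b * d⁻¹).1.hom ≫ proj A ((Scheme.Modules.pullback (axis A).left).obj Λ) T ≫ ψ =
      proj A ((Scheme.Modules.pullback (axis A).left).obj Λ) T ≫ ψ := by
    rw [mul_hom, Category.assoc, hb3]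
    show d.1.inv ≫ _ = _
    rw [Iso.inv_comp_eq, hd3]
  rw [show (b * d⁻¹).1.hom = _ from hs, smulH_comp, Category.id_comp] at h3
  haveI := isIso_fib_comp (proj A ((Scheme.Modules.pullback (axis A).left).obj Λ) T) ψ
  have hc1 := smulH_injective (PicClLib.isInvertible_pullback _ (PicClLib.isInvertible_pullback _ hΛ))
    (proj A ((Scheme.Modules.pullback (axis A).left).obj Λ) T ≫ ψ) (h3.trans (smulH_one _).symm)
  rw [← map_one (snd A T).left.appTop.hom] at hc1
  rw [(hA T).1 hc1] at hc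
  exact mul_inv_eq_one.1 (eq_one_of_isScal hc)

theorem IsNormLift.bc [IsIso (fib ψ)] {T T' : Over S} (g : T' ⟶ T) {x : T ⟶ A} {β : thetaPts (A ⊗ A) Λ T}
    (h : IsNormLift ψ x β) : IsNormLift ψ (g ≫ x) (ThetaLib.bc g β) := by
  obtain ⟨h1, b, hb1, hb2, hb3⟩ := h
  refine ⟨by rw [pt_bc, h1, Category.assoc], ThetaLib.bc g b, by rw [pt_bc, hb1], ?_, ?_⟩
  · refine cancel (bcLift (A ⊗ A) Λ g) ?_ ?_
    · show (ThetaLib.bc g b).1.hom.base ≫ (pullObj (axis A) Λ T').base =
        (pullObj (axis A) Λ T').base ≫ (ThetaLib.bc g β).1.hom.base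
      rw [pullObj_base, isOverPt_pt (ThetaLib.bc g b), isOverPt_pt (ThetaLib.bc g β), pt_bc, pt_bc, h1, hb1,
        ← Over.comp_left, ← Over.comp_left, whiskerRight_transl, Category.assoc]
    · rw [Category.assoc, Category.assoc, ← pullObj_bcLift, isBaseChange_bc g β,
        reassoc_of% (isBaseChange_bc g b), hb2, ← Category.assoc, pullObj_bcLift, Category.assoc]
  · rw [← bcLift_proj A ((Scheme.Modules.pullback (axis A).left).obj Λ) g, Category.assoc,
      reassoc_of% (isBaseChange_bc g b), hb3]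

variable [Subsingleton S] [Nonempty S]

theorem exists_normLift (hL : PicF.IsInvertible L) (hΛi : PicF.IsInvertible Λ)
    (hΛ : AgPol.IsLambdaSheaf μ[A].left (fst A A).left (snd A A).left L Λ) (hA : GammaSnd A) [IsIso (fib ψ)]
    (hψ : ψ.base = A.hom) {T : Over S} (x : T ⟶ A) (hx : IsMumfordTriv A L x) : ∃ β, IsNormLift ψ x β := by
  obtain ⟨β₀, hβ₀⟩ := exists_of_cl (L := Λ) (x ≫ axis A) (cl_transl_axis hL hΛ x hx)
  obtain ⟨b, hb, hp⟩ := exists_isPull (f := axis A) β₀ x hβ₀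
  let Λ' := (Scheme.Modules.pullback (axis A).left).obj Λ
  haveI := isIso_fib_comp (proj A Λ' T) ψ
  haveI := isIso_fib_of_iso b.1
  haveI := isIso_fib_comp b.1.hom (proj A Λ' T ≫ ψ)
  have hΛ' : PicF.IsInvertible (mdl (thetaObj A Λ' T)) :=
    PicClLib.isInvertible_pullback _ (PicClLib.isInvertible_pullback _ hΛi)
  obtain ⟨a, ha⟩ := exists_eq_smulH hΛ' (b.1.hom ≫ proj A Λ' T ≫ ψ) (proj A Λ' T ≫ ψ) (by
    show b.1.hom.base ≫ (fst A T).left ≫ ψ.base = (fst A T).left ≫ ψ.base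
    rw [hb, hψ, ← Over.comp_left_assoc]
    erw [Over.w (transl A x ≫ fst A T)]
    exact (Over.w (fst A T)).symm)
  obtain ⟨c, rfl⟩ := (hA T).2 a
  haveI : IsIso (fib (smulH (P := thetaObj A Λ' T) ((snd A T).left.appTop c) (proj A Λ' T ≫ ψ))) := by
    rw [← ha]; infer_instance
  have hu' := isUnit_of_isIso_fib hΛ' (proj A Λ' T ≫ ψ) (a := (snd A T).left.appTop c)
  obtain ⟨d, hd⟩ := hu'.exists_right_inv
  obtain ⟨e, rfl⟩ := (hA T).2 d
  rw [← map_mul, ← map_one (snd A T).left.appTop.hom] at hd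
  have hce : c * e = 1 := (hA T).1 hd
  let v : (Γ(T.left, ⊤))ˣ := ⟨e, c, by rw [mul_comm]; exact hce, hce⟩
  let s := scalPt (A := A ⊗ A) hΛi v
  obtain ⟨s', hs', hsp⟩ := exists_isPull (f := axis A) s 1 (by
    rw [axis_one]; exact isOverPt_of_isScal (isScal_scalPt hΛi v))
  have hsc := isScal_of_isPull hΛi hA hs' hsp (isScal_scalPt hΛi v)
  refine ⟨s * β₀, ?_, s' * b, by rw [pt_mul, isOverPt_iff.1 hb, isOverPt_iff.1 hs', _root_.mul_one],
    isPull_mul hsp hp, ?_⟩
  · rw [pt_mul, isOverPt_iff.1 hβ₀, isOverPt_iff.1 (isOverPt_of_isScal (isScal_scalPt hΛi v)), _root_.mul_one]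
  · rw [mul_hom, Category.assoc]
    show b.1.hom ≫ s'.1.hom ≫ _ = _
    rw [show s'.1.hom = _ from hsc, smulH_comp, Category.id_comp,
      comp_smulH hΛ', ha, smulH_smulH, hb,
      ← CategoryTheory.comp_apply, ← Scheme.Hom.comp_appTop, ← Over.comp_left, transl_snd, ← map_mul]
    show smulH (P := thetaObj A Λ' T) ((snd A T).left.appTop (c * e)) (proj A Λ' T ≫ ψ) = _
    rw [hce, map_one, smulH_one]

end Groth.Agent.ThetaLib
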