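import Groth.Agent.ThetaLib.EndCoeff
import Groth.Prelude.Def_ThetaGrp

/-!
# Morphisms of the category of pairs (scheme, module): cartesian morphisms and scalars
-/

set_option autoImplicit false
set_option backward.isDefEq.respectTransparency false
set_option backward.isDefEq.respectTransparency.types false
set_option linter.style.haveILetI false

universe u

open CategoryTheory AlgebraicGeometry Pseudofunctor Bicategory Opposite

noncomputable section

namespace Groth.Agent.ThetaLib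

open HilbPoly

/-- Pairs of a scheme and a module. -/
abbrev Pr : Type (u + 1) := CoGrothendieck (ThetaGrp.modPF.{u})

variable {P Q R : Pr.{u}}

/-- A morphism of pairs from a morphism of schemes and one of modules. -/
abbrev mkH (b : P.base ⟶ Q.base)
    (h : (P.fiber : P.base.Modules) ⟶ (Scheme.Modules.pullback b).obj Q.fiber) : P ⟶ Q := ⟨b, h⟩

/-- The module part. -/
abbrev fib (F : P ⟶ Q) : (P.fiber : P.base.Modules) ⟶ (Scheme.Modules.pullback F.base).obj Q.fiber := F.fiber

/-- The module of a pair. -/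
abbrev mdl (P : Pr.{u}) : P.base.Modules := P.fiber

theorem comp_base' (F : P ⟶ Q) (G : Q ⟶ R) : (F ≫ G).base = F.base ≫ G.base := rfl

theorem comp_fib (F : P ⟶ Q) (G : Q ⟶ R) :
    fib (F ≫ G) = fib F ≫ (Scheme.Modules.pullback F.base).map (fib G) ≫
      (Scheme.Modules.pullbackComp F.base G.base).hom.app R.fiber := rfl

theorem hom_ext' (F G : P ⟶ Q) (hb : F.base = G.base)
    (h : fib F ≫ (Scheme.Modules.pullbackCongr hb).hom.app Q.fiber = fib G) : F = G := by
  obtain ⟨b, f⟩ := F; obtain ⟨b', f'⟩ := G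
  dsimp only at hb
  subst hb
  have h' : f = f' := by simpa [fib, Scheme.Modules.pullbackCongr] using h
  exact congrArg (fun x => (⟨b, x⟩ : P ⟶ Q)) h'

/-- A morphism whose module part is invertible is cartesian: uniqueness. -/
theorem cancel (C : Q ⟶ R) [IsIso (fib C)] {F G : P ⟶ Q} (hb : F.base = G.base) (h : F ≫ C = G ≫ C) :
    F = G := by
  obtain ⟨b, f⟩ := F; obtain ⟨b', f'⟩ := G
  dsimp only at hb
  subst hb
  have h1 := CoGrothendieck.Hom.congr h
  simp only [eqToHom_refl, Category.comp_id] at h1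
  change f ≫ (Scheme.Modules.pullback b).map (fib C) ≫ (Scheme.Modules.pullbackComp b C.base).hom.app R.fiber =
    (f' ≫ (Scheme.Modules.pullback b).map (fib C) ≫ (Scheme.Modules.pullbackComp b C.base).hom.app R.fiber) at h1
  exact congrArg (fun x => (⟨b, x⟩ : P ⟶ Q)) ((cancel_mono _).1 h1)

/-- A morphism whose module part is invertible is cartesian: existence. -/
theorem exists_lift (C : Q ⟶ R) [IsIso (fib C)] (G : P ⟶ R) (b : P.base ⟶ Q.base) (hb : b ≫ C.base = G.base) :
    ∃ F : P ⟶ Q, F.base = b ∧ F ≫ C = G ∧ (IsIso (fib G) → IsIso (fib F)) := by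
  obtain ⟨g, f⟩ := G
  dsimp only at hb
  subst hb
  let T := (Scheme.Modules.pullback b).map (fib C) ≫ (Scheme.Modules.pullbackComp b C.base).hom.app R.fiber
  let f' : mdl P ⟶ (Scheme.Modules.pullback (b ≫ C.base)).obj R.fiber := f
  refine ⟨mkH b (f' ≫ inv T), rfl, hom_ext' _ _ rfl ?_, fun hf => ?_⟩
  · rw [comp_fib]
    show ((f' ≫ inv T) ≫ T) ≫ _ = f'
    simp [Scheme.Modules.pullbackCongr]
  · haveI : IsIso f' := hf
    exact inferInstanceAs (IsIso (f' ≫ inv T))

theorem isIso_fib_id (P : Pr.{u}) : IsIso (fib (𝟙 P)) := by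
  show IsIso ((Scheme.Modules.pullbackId P.base).inv.app P.fiber)
  infer_instance

theorem isIso_fib_comp (F : P ⟶ Q) (G : Q ⟶ R) [IsIso (fib F)] [IsIso (fib G)] : IsIso (fib (F ≫ G)) := by
  rw [comp_fib]; infer_instance

/-- A morphism with invertible parts is an isomorphism. -/
theorem isIso_of_base (F : P ⟶ Q) [IsIso (fib F)] [IsIso F.base] : IsIso F := by
  obtain ⟨G, hG, hGF, -⟩ := exists_lift F (𝟙 Q) (inv F.base) (IsIso.inv_hom_id F.base)
  refine ⟨G, cancel F ?_ ?_, hGF⟩
  · show F.base ≫ G.base = 𝟙 _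
    rw [hG, IsIso.hom_inv_id]
  · rw [Category.assoc, hGF, Category.comp_id, Category.id_comp]

/-- Multiplication of a morphism by a function on the source. -/
def smulH (a : Γ(P.base, ⊤)) (F : P ⟶ Q) : P ⟶ Q := mkH F.base (smulG (mdl P) a ≫ fib F)

theorem smulH_base (a : Γ(P.base, ⊤)) (F : P ⟶ Q) : (smulH a F).base = F.base := rfl

theorem smulH_fib (a : Γ(P.base, ⊤)) (F : P ⟶ Q) : fib (smulH a F) = smulG (mdl P) a ≫ fib F := rfl

theorem smulH_one (F : P ⟶ Q) : smulH 1 F = F := by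
  refine congrArg (fun x => (⟨F.base, x⟩ : P ⟶ Q)) ?_
  show smulG (mdl P) 1 ≫ fib F = fib F
  rw [smulG_one, Category.id_comp]

theorem smulH_smulH (a b : Γ(P.base, ⊤)) (F : P ⟶ Q) : smulH a (smulH b F) = smulH (b * a) F := by
  refine congrArg (fun x => (⟨F.base, x⟩ : P ⟶ Q)) ?_
  show smulG (mdl P) a ≫ smulG (mdl P) b ≫ fib F = smulG (mdl P) (b * a) ≫ fib F
  rw [smulG_mul, Category.assoc]

theorem smulH_comp (a : Γ(P.base, ⊤)) (F : P ⟶ Q) (G : Q ⟶ R) : smulH a F ≫ G = smulH a (F ≫ G) := by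
  refine hom_ext' _ _ rfl ?_
  rw [comp_fib, smulH_fib, smulH_fib, comp_fib]
  simp [Scheme.Modules.pullbackCongr]
  rfl

theorem comp_smulH (hQ : PicF.IsInvertible (mdl Q)) (F : P ⟶ Q) (b : Γ(Q.base, ⊤)) (G : Q ⟶ R) :
    F ≫ smulH b G = smulH (F.base.appTop b) (F ≫ G) := by
  refine hom_ext' _ _ rfl ?_
  rw [comp_fib, smulH_fib, smulH_fib, comp_fib, Functor.map_comp, map_smulG F.base hQ]
  simp only [Scheme.Modules.pullbackCongr, eqToIso_refl, Iso.refl_hom, NatTrans.id_app, Category.comp_id]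
  rw [reassoc_of% (smulG_naturality (fib F) (F.base.appTop b))]
  rfl

theorem smulH_injective (hP : PicF.IsInvertible (mdl P)) (F : P ⟶ Q) [IsIso (fib F)] {a b : Γ(P.base, ⊤)}
    (h : smulH a F = smulH b F) : a = b := by
  have h1 := CoGrothendieck.Hom.congr h
  simp only [eqToHom_refl, Category.comp_id] at h1
  exact smulG_injective hP ((cancel_mono (fib F)).1 h1)

/-- Two morphisms over the same morphism of schemes differ by a function. -/
theorem exists_eq_smulH (hP : PicF.IsInvertible (mdl P)) (F G : P ⟶ Q) [IsIso (fib G)] (hb : F.base = G.base) :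
    ∃ a : Γ(P.base, ⊤), F = smulH a G := by
  obtain ⟨b, g⟩ := G
  obtain ⟨b', f⟩ := F
  dsimp only at hb
  subst hb
  let g' : mdl P ⟶ (Scheme.Modules.pullback b').obj Q.fiber := g
  haveI : IsIso g' := inferInstanceAs (IsIso (fib (⟨b', g⟩ : P ⟶ Q)))
  let f' : mdl P ⟶ (Scheme.Modules.pullback b').obj Q.fiber := f
  obtain ⟨a, ha⟩ := exists_eq_smulG hP (f' ≫ inv g')
  refine ⟨a, congrArg (fun x => (⟨b', x⟩ : P ⟶ Q)) ?_⟩
  show f' = smulG (mdl P) a ≫ g'
  rw [← ha, Category.assoc, IsIso.inv_hom_id, Category.comp_id]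

end Groth.Agent.ThetaLib
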