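import Mathlib

/-!
# Symmetric cocycles of finite algebras over an algebraically closed field

The algebraic part of the triviality of extensions of finite commutative group schemes by the multiplicative
group: a twisted comultiplication has a grouplike element.
-/

set_option autoImplicit false
set_option maxHeartbeats 800000

open scoped TensorProduct

noncomputable section

namespace Groth.Agent.ThetaLib

universe u

variable {k C : Type u} [Field k] [CommRing C] [Algebra k C]

/-- Commuting endomorphisms of a finite-dimensional space over an algebraically closed field have a common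
eigenvector. -/
theorem exists_common_eigen [IsAlgClosed k] {V : Type u} [AddCommGroup V] [Module k V] [FiniteDimensional k V]
    [Nontrivial V] {ι : Type*} (T : ι → Module.End k V) (h : ∀ a b, T a * T b = T b * T a) :
    ∃ v : V, v ≠ 0 ∧ ∀ a, ∃ c : k, T a v = c • v := by
  classical
  let P : ℕ → Prop := fun n => ∃ W : Submodule k V, W ≠ ⊥ ∧ (∀ a, ∀ w ∈ W, T a w ∈ W) ∧ Module.finrank k W = n
  have hex : ∃ n, P n := ⟨_, ⊤, top_ne_bot, fun _ _ _ => trivial, rfl⟩
  obtain ⟨W, hW, hinv, hn⟩ := Nat.find_spec hex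
  obtain ⟨v, hv, hv0⟩ := Submodule.exists_mem_ne_zero_of_ne_bot hW
  refine ⟨v, hv0, fun a => ?_⟩
  have : Nontrivial W := Submodule.nontrivial_iff_ne_bot.2 hW
  obtain ⟨c, hc⟩ := Module.End.exists_eigenvalue ((T a).restrict (hinv a))
  obtain ⟨w, hw⟩ := hc.exists_hasEigenvector
  refine ⟨c, ?_⟩
  let E : Submodule k V := W ⊓ Module.End.eigenspace (T a) c
  have hmem : (w : V) ∈ E := ⟨w.2, Module.End.mem_eigenspace_iff.2 (congrArg Subtype.val hw.apply_eq_smul)⟩
  have hE : E ≠ ⊥ := fun h0 => hw.2 (Subtype.ext (by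
    have := h0 ▸ hmem
    simpa using this))
  have hEinv : ∀ b, ∀ x ∈ E, T b x ∈ E := fun b x hx => ⟨hinv b x hx.1, Module.End.mem_eigenspace_iff.2 (by
    have e := LinearMap.congr_fun (h a b) x
    rw [Module.End.mul_apply, Module.End.mul_apply] at e
    rw [e, Module.End.mem_eigenspace_iff.1 hx.2, map_smul])⟩
  have hle : Module.finrank k W ≤ Module.finrank k E := hn ▸ Nat.find_min' hex ⟨E, hE, hEinv, rfl⟩
  have hEW : E = W := Submodule.eq_of_le_of_finrank_le inf_le_left hle
  exact Module.End.mem_eigenspace_iff.1 (hEW ▸ hv : v ∈ E).2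

theorem sum_coord_tmul [FiniteDimensional k C] (X : C ⊗[k] C) :
    X = ∑ j, Module.finBasis k C j ⊗ₜ[k]
      (TensorProduct.lid k C (((Module.finBasis k C).coord j).rTensor C X)) := by
  induction X using TensorProduct.induction_on with
  | zero => simp
  | tmul a c =>
    simp only [LinearMap.rTensor_tmul, TensorProduct.lid_tmul]
    simp_rw [← TensorProduct.smul_tmul]
    rw [← TensorProduct.sum_tmul]
    congr 1
    exact ((Module.finBasis k C).sum_repr a).symm
  | add x y hx hy =>
    simp only [map_add, TensorProduct.tmul_add, Finset.sum_add_distrib]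
    rw [← hx, ← hy]

/-- A cocommutative coassociative injective comultiplication has a grouplike element. -/
theorem exists_grouplike [IsAlgClosed k] [FiniteDimensional k C] [Nontrivial C] (D : C →ₗ[k] C ⊗[k] C)
    (hcomm : ∀ f, TensorProduct.comm k C C (D f) = D f)
    (hassoc : ∀ f, TensorProduct.assoc k C C C (D.rTensor C (D f)) = D.lTensor C (D f))
    (hinj : Function.Injective D) : ∃ x : C, x ≠ 0 ∧ D x = x ⊗ₜ[k] x := by
  let sl : Module.Dual k C → (C ⊗[k] C →ₗ[k] C) := fun φ => (TensorProduct.lid k C).toLinearMap ∘ₗ φ.rTensor C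
  let T : Module.Dual k C → Module.End k C := fun φ => sl φ ∘ₗ D
  let G : Module.Dual k C → Module.Dual k C → (C ⊗[k] (C ⊗[k] C) →ₗ[k] C) := fun ψ φ =>
    (TensorProduct.lid k C).toLinearMap ∘ₗ (ψ.rTensor C) ∘ₗ (sl φ).lTensor C
  let sw : C ⊗[k] (C ⊗[k] C) →ₗ[k] C ⊗[k] (C ⊗[k] C) := (TensorProduct.assoc k C C C).toLinearMap ∘ₗ
    (TensorProduct.comm k C C).toLinearMap.rTensor C ∘ₗ (TensorProduct.assoc k C C C).symm.toLinearMap
  have h1 : ∀ (ψ φ : Module.Dual k C) (X : C ⊗[k] C), T φ (sl ψ X) = G ψ φ (D.lTensor C X) := fun ψ φ X => by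
    induction X using TensorProduct.induction_on with
    | zero => simp
    | tmul a c => simp [sl, T, G]
    | add x y hx hy => simp [hx, hy]
  have h2 : ∀ (ψ φ : Module.Dual k C) (X : C ⊗[k] (C ⊗[k] C)), G φ ψ (sw X) = G ψ φ X := fun ψ φ X => by
    induction X using TensorProduct.induction_on with
    | zero => simp
    | add x y hx hy => simp [hx, hy]
    | tmul a Y =>
      induction Y using TensorProduct.induction_on with
      | zero => simp
      | add x y hx hy => simp [TensorProduct.tmul_add, hx, hy]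
      | tmul b c => simp [sl, G, sw, smul_smul, mul_comm]
  have h3 : ∀ f, sw (D.lTensor C (D f)) = D.lTensor C (D f) := fun f => by
    simp only [sw, LinearMap.comp_apply, LinearEquiv.coe_coe]
    conv_lhs => rw [← hassoc f, LinearEquiv.symm_apply_apply, ← LinearMap.comp_apply, ← LinearMap.rTensor_comp,
      show (TensorProduct.comm k C C).toLinearMap ∘ₗ D = D from LinearMap.ext hcomm]
    exact hassoc f
  have hT : ∀ φ ψ, T φ * T ψ = T ψ * T φ := fun φ ψ => LinearMap.ext fun f => by
    show T φ (sl ψ (D f)) = T ψ (sl φ (D f))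
    rw [h1, h1, ← h2 ψ φ, h3]
  obtain ⟨v, hv, hev⟩ := exists_common_eigen T hT
  choose l hl using hev
  let b := Module.finBasis k C
  let x : C := ∑ j, l (b.coord j) • b j
  have hDv : D v = x ⊗ₜ[k] v := by
    conv_lhs => rw [sum_coord_tmul (D v)]
    rw [TensorProduct.sum_tmul]
    refine Finset.sum_congr rfl fun j _ => ?_
    show b j ⊗ₜ[k] T (b.coord j) v = (l (b.coord j) • b j) ⊗ₜ[k] v
    rw [hl, TensorProduct.smul_tmul]
  obtain ⟨ψ, hψ⟩ := Module.Projective.exists_dual_ne_zero k hv
  let a : k := (ψ v)⁻¹ * ψ x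
  have hx : x = a • v := by
    have h := congrArg (sl ψ) (hcomm v)
    rw [hDv, TensorProduct.comm_tmul] at h
    simp only [sl, LinearMap.comp_apply, LinearMap.rTensor_tmul, LinearEquiv.coe_coe, TensorProduct.lid_tmul] at h
    show x = ((ψ v)⁻¹ * ψ x) • v
    rw [mul_smul, ← h, smul_smul, inv_mul_cancel₀ hψ, one_smul]
  have ha : a ≠ 0 := fun h0 => hv (hinj (by rw [hDv, hx, h0, zero_smul, TensorProduct.zero_tmul, map_zero]))
  refine ⟨x, fun h0 => ?_, ?_⟩
  · rw [h0] at hx
    exact hv ((smul_eq_zero.1 hx.symm).resolve_left ha)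
  · conv_lhs => rw [hx, map_smul, hDv, ← TensorProduct.tmul_smul, ← hx]

end Groth.Agent.ThetaLib
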