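import Groth.Agent.ThetaLib.Cart
import Groth.Agent.Lib.AVPicZero

/-!
# Points of the theta group: base change, scalars, centrality
-/

set_option autoImplicit false
set_option backward.isDefEq.respectTransparency false
set_option backward.isDefEq.respectTransparency.types false
set_option linter.style.haveILetI false
set_option maxHeartbeats 1000000

universe u

open CategoryTheory CategoryTheory.Limits MonoidalCategory CartesianMonoidalCategory MonObj AlgebraicGeometry
open Pseudofunctor Bicategory

noncomputable section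

namespace Groth.Agent.ThetaLib

open ThetaGrp HilbPoly

/-- Equivalences of pairs have invertible module parts. -/
theorem isIso_fib_of_iso {P Q : Pr.{u}} (e : P ≅ Q) : IsIso (fib e.hom) := by
  let f := fib e.hom
  let g := fib e.inv
  haveI h1 : IsIso (f ≫ (Scheme.Modules.pullback e.hom.base).map g ≫
      (Scheme.Modules.pullbackComp e.hom.base e.inv.base).hom.app P.fiber) := by
    have := isIso_fib_id P
    rw [← e.hom_inv_id] at this
    exact this
  haveI h2 : IsIso (g ≫ (Scheme.Modules.pullback e.inv.base).map f ≫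
      (Scheme.Modules.pullbackComp e.inv.base e.hom.base).hom.app Q.fiber) := by
    have := isIso_fib_id Q
    rw [← e.inv_hom_id] at this
    exact this
  let G := (Scheme.Modules.pullback e.hom.base).map g
  let c := (Scheme.Modules.pullbackComp e.hom.base e.inv.base).hom.app P.fiber
  let F := (Scheme.Modules.pullback e.inv.base).map f
  let d := (Scheme.Modules.pullbackComp e.inv.base e.hom.base).hom.app Q.fiber
  -- `G` is a split monomorphism and a split epimorphism
  haveI : IsSplitMono g := .mk' ⟨(F ≫ d) ≫ inv (g ≫ F ≫ d), by rw [← Category.assoc]; exact IsIso.hom_inv_id (g ≫ F ≫ d)⟩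
  haveI : IsSplitMono G := inferInstanceAs (IsSplitMono ((Scheme.Modules.pullback e.hom.base).map g))
  haveI : IsSplitEpi (G ≫ c) := .mk' ⟨inv (f ≫ G ≫ c) ≫ f, by rw [Category.assoc]; exact IsIso.inv_hom_id (f ≫ G ≫ c)⟩
  haveI : IsIso (G ≫ c) := isIso_of_mono_of_isSplitEpi _
  exact IsIso.of_isIso_comp_right f (G ≫ c)

variable {S : Scheme.{u}} (A : Over S) (L : A.left.Modules)

/-- The pair of `A` and `L`. -/
abbrev basePr : Pr.{u} := ⟨A.left, L⟩

/-- The projection of pairs. -/
def proj (T : Over S) : thetaObj A L T ⟶ basePr A L := mkH (fst A T).left (𝟙 _)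

instance (T : Over S) : IsIso (fib (proj A L T)) := inferInstanceAs (IsIso (𝟙 _))

theorem bcLift_proj {T G : Over S} (g : T ⟶ G) : bcLift A L g ≫ proj A L G = proj A L T := by
  refine hom_ext' _ _ (show (A ◁ g).left ≫ (fst A G).left = (fst A T).left by
    rw [← Over.comp_left, whiskerLeft_fst]) ?_
  rw [comp_fib]
  show ((((Scheme.Modules.pullbackCongr _).hom.app L ≫ (Scheme.Modules.pullbackComp _ _).inv.app L) ≫
    (Scheme.Modules.pullback _).map (𝟙 _) ≫ (Scheme.Modules.pullbackComp _ _).hom.app L) ≫ _) = 𝟙 _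
  simp [Scheme.Modules.pullbackCongr]

instance {T G : Over S} (g : T ⟶ G) : IsIso (fib (bcLift A L g)) :=
  inferInstanceAs (IsIso ((Scheme.Modules.pullbackCongr _).hom.app L ≫ (Scheme.Modules.pullbackComp _ _).inv.app L))

theorem bcLift_comp {T T' T'' : Over S} (g : T' ⟶ T) (h : T'' ⟶ T') :
    bcLift A L h ≫ bcLift A L g = bcLift A L (h ≫ g) := by
  refine cancel (proj A L T) ?_ ?_
  · show (A ◁ h).left ≫ (A ◁ g).left = (A ◁ (h ≫ g)).left
    rw [← Over.comp_left, MonoidalCategory.whiskerLeft_comp]
  · rw [Category.assoc, bcLift_proj, bcLift_proj, bcLift_proj]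

variable [GrpObj A]

theorem transl_injective {T : Over S} {x y : T ⟶ A} (h : transl A x = transl A y) : x = y := by
  have h1 := congrArg (fun m => lift (1 : T ⟶ A) (𝟙 T) ≫ m ≫ fst A T) h
  simpa [transl_fst, MonObj.comp_mul] using h1

theorem isIso_transl {T : Over S} (x : T ⟶ A) : IsIso (transl A x) :=
  ⟨transl A x⁻¹, by rw [← transl_mul, mul_inv_cancel, transl_one], by rw [← transl_mul, inv_mul_cancel, transl_one]⟩

theorem whisker_transl {T T' : Over S} (g : T' ⟶ T) (x : T ⟶ A) :
    transl A (g ≫ x) ≫ (A ◁ g) = (A ◁ g) ≫ transl A x := by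
  apply CartesianMonoidalCategory.hom_ext
  · simp [transl, MonObj.comp_mul]
  · simp [transl]

variable {A L}

/-- The underlying translation point. -/
def pt {T : Over S} (β : thetaPts A L T) : T ⟶ A := β.2.choose

theorem isOverPt_pt {T : Over S} (β : thetaPts A L T) : IsOverPt β (pt β) := β.2.choose_spec

theorem overPt_unique {T : Over S} {β : thetaPts A L T} {x y : T ⟶ A} (hx : IsOverPt β x) (hy : IsOverPt β y) :
    x = y :=
  transl_injective A (Over.OverMorphism.ext (hx.symm.trans hy))

theorem isOverPt_iff {T : Over S} {β : thetaPts A L T} {x : T ⟶ A} : IsOverPt β x ↔ pt β = x :=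
  ⟨fun h => overPt_unique (isOverPt_pt β) h, fun h => h ▸ isOverPt_pt β⟩

theorem mul_hom {T : Over S} (β δ : thetaPts A L T) : (β * δ).1.hom = δ.1.hom ≫ β.1.hom := rfl

theorem pt_mul {T : Over S} (β δ : thetaPts A L T) : pt (β * δ) = pt δ * pt β := by
  rw [← isOverPt_iff]
  show δ.1.hom.base ≫ β.1.hom.base = _
  rw [isOverPt_pt δ, isOverPt_pt β, transl_mul, Over.comp_left]

/-- The point morphism. -/
def ptHom (T : Over S) : thetaPts A L T →* (T ⟶ A)ᵐᵒᵖ :=
  MonoidHom.mk' (fun β => MulOpposite.op (pt β)) fun β δ => by rw [pt_mul, MulOpposite.op_mul]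

theorem pt_one {T : Over S} : pt (1 : thetaPts A L T) = 1 := congrArg MulOpposite.unop (map_one (ptHom (A := A) (L := L) T))

theorem pt_inv {T : Over S} (β : thetaPts A L T) : pt β⁻¹ = (pt β)⁻¹ := congrArg MulOpposite.unop (map_inv (ptHom T) β)

/-- Points with the same translation and the same module part are equal. -/
theorem ext_proj {T : Over S} {β δ : thetaPts A L T} (hp : pt β = pt δ)
    (h : β.1.hom ≫ proj A L T = δ.1.hom ≫ proj A L T) : β = δ :=
  Subtype.ext (Iso.ext (cancel (proj A L T)
    ((isOverPt_pt β).trans (hp ▸ (isOverPt_pt δ).symm)) h))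

/-- A point from a translation and an isomorphism of inverse images. -/
theorem exists_of_hom {T : Over S} (x : T ⟶ A) (G : thetaObj A L T ⟶ basePr A L) [IsIso (fib G)]
    (hb : G.base = (transl A x ≫ fst A T).left) : ∃ β : thetaPts A L T, IsOverPt β x ∧ β.1.hom ≫ proj A L T = G := by
  obtain ⟨F, hF, hFG, hiso⟩ := exists_lift (proj A L T) G (transl A x).left hb.symm
  haveI := hiso inferInstance
  haveI : IsIso F.base := by
    rw [hF]
    haveI := isIso_transl A x
    exact inferInstanceAs (IsIso ((Over.forget S).map (transl A x)))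
  haveI := isIso_of_base F
  exact ⟨⟨asIso F, x, hF⟩, hF, hFG⟩

theorem baseChange_pt {T G : Over S} {β : thetaPts A L T} {g : T ⟶ G} {u : thetaPts A L G}
    (h : IsBaseChange β g u) : pt β = g ≫ pt u := by
  have h1 := congrArg (fun m : thetaObj A L T ⟶ thetaObj A L G => m.base ≫ (fst A G).left) h
  have e1 : β.1.hom.base = (transl A (pt β)).left := isOverPt_pt β
  have e2 : u.1.hom.base = (transl A (pt u)).left := isOverPt_pt u
  simp only [comp_base', e1, e2, bcLift, ← Over.comp_left, Category.assoc] at h1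
  have h2 := congrArg (fun m => lift (1 : T ⟶ A) (𝟙 T) ≫ m) (Over.OverMorphism.ext h1)
  simpa [transl, MonObj.comp_mul] using h2

/-- Base change exists. -/
theorem exists_isBaseChange {T G : Over S} (g : T ⟶ G) (u : thetaPts A L G) :
    ∃ β : thetaPts A L T, IsBaseChange β g u := by
  let F := bcLift A L g ≫ u.1.hom ≫ proj A L G
  haveI := isIso_fib_of_iso u.1
  haveI := isIso_fib_comp u.1.hom (proj A L G)
  haveI := isIso_fib_comp (bcLift A L g) (u.1.hom ≫ proj A L G)
  obtain ⟨β, hβ, hβF⟩ := exists_of_hom (g ≫ pt u) F (by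
    show (A ◁ g).left ≫ u.1.hom.base ≫ (fst A G).left = _
    rw [isOverPt_pt u, ← Over.comp_left, ← Over.comp_left, ← reassoc_of% (whisker_transl A g (pt u)),
      whiskerLeft_fst])
  refine ⟨β, cancel (proj A L G) ?_ ?_⟩
  · show β.1.hom.base ≫ (A ◁ g).left = (A ◁ g).left ≫ u.1.hom.base
    rw [hβ, isOverPt_pt u, ← Over.comp_left, ← Over.comp_left, whisker_transl]
  · rw [Category.assoc, bcLift_proj, hβF, Category.assoc]

theorem baseChange_unique {T G : Over S} {β δ : thetaPts A L T} {g : T ⟶ G} {u : thetaPts A L G}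
    (h : IsBaseChange β g u) (h' : IsBaseChange δ g u) : β = δ := by
  refine ext_proj ((baseChange_pt h).trans (baseChange_pt h').symm) ?_
  rw [← bcLift_proj A L g, ← Category.assoc, ← Category.assoc, h, h']

theorem baseChange_mul {T G : Over S} {β δ : thetaPts A L T} {g : T ⟶ G} {u v : thetaPts A L G}
    (h : IsBaseChange β g u) (h' : IsBaseChange δ g v) : IsBaseChange (β * δ) g (u * v) := by
  show (δ.1.hom ≫ β.1.hom) ≫ bcLift A L g = bcLift A L g ≫ v.1.hom ≫ u.1.hom
  rw [Category.assoc, h, reassoc_of% h']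

theorem baseChange_comp {T T' T'' : Over S} {β : thetaPts A L T''} {δ : thetaPts A L T'} {u : thetaPts A L T}
    {h : T'' ⟶ T'} {g : T' ⟶ T} (h₁ : IsBaseChange β h δ) (h₂ : IsBaseChange δ g u) :
    IsBaseChange β (h ≫ g) u := by
  show β.1.hom ≫ bcLift A L (h ≫ g) = bcLift A L (h ≫ g) ≫ u.1.hom
  rw [← bcLift_comp, reassoc_of% h₁, Category.assoc, h₂]

/-- Base change of points. -/
def bc {T G : Over S} (g : T ⟶ G) : thetaPts A L G →* thetaPts A L T :=
  MonoidHom.mk' (fun u => (exists_isBaseChange g u).choose) fun u v =>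
    baseChange_unique (exists_isBaseChange g (u * v)).choose_spec
      (baseChange_mul (exists_isBaseChange g u).choose_spec (exists_isBaseChange g v).choose_spec)

theorem isBaseChange_bc {T G : Over S} (g : T ⟶ G) (u : thetaPts A L G) : IsBaseChange (bc g u) g u :=
  (exists_isBaseChange g u).choose_spec

theorem eq_bc {T G : Over S} {β : thetaPts A L T} {g : T ⟶ G} {u : thetaPts A L G} (h : IsBaseChange β g u) :
    β = bc g u :=
  baseChange_unique h (isBaseChange_bc g u)

theorem bc_comp {T T' T'' : Over S} (g : T' ⟶ T) (h : T'' ⟶ T') (u : thetaPts A L T) :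
    bc h (bc g u) = bc (h ≫ g) u :=
  eq_bc (baseChange_comp (isBaseChange_bc h _) (isBaseChange_bc g u))

theorem pt_bc {T G : Over S} (g : T ⟶ G) (u : thetaPts A L G) : pt (bc g u) = g ≫ pt u :=
  baseChange_pt (isBaseChange_bc g u)

end Groth.Agent.ThetaLib
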