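import Groth.Agent.ThetaLib.PrGlue
import Groth.Agent.ThetaLib.Lifts
import Mathlib.AlgebraicGeometry.Sites.Fpqc
import Mathlib.AlgebraicGeometry.AffineSpace

/-!
# fppf descent of functions and of morphisms of pairs
-/

set_option autoImplicit false
set_option backward.isDefEq.respectTransparency false
set_option backward.isDefEq.respectTransparency.types false
set_option linter.style.haveILetI false
set_option maxHeartbeats 1000000

universe u

open CategoryTheory CategoryTheory.Limits AlgebraicGeometry TopologicalSpace Pseudofunctor Bicategory Opposite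

noncomputable section

namespace Groth.Agent.ThetaLib

open HilbPoly

section Fun

variable {X Y : Scheme.{u}} (w : Y ⟶ X) [Flat w] [Surjective w] [LocallyOfFinitePresentation w]

/-- A global function as a morphism. -/
abbrev funMap {Z : Scheme.{u}} (a : Γ(Z, ⊤)) : Z ⟶ Spec (CommRingCat.of (MvPolynomial PUnit.{u + 1} (ULift ℤ))) :=
  (AffineSpace.toSpecMvPolyIntEquiv PUnit.{u + 1}).symm fun _ => a

theorem comp_funMap {Z W : Scheme.{u}} (p : W ⟶ Z) (a : Γ(Z, ⊤)) : p ≫ funMap a = funMap (p.appTop a) := by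
  refine (AffineSpace.toSpecMvPolyIntEquiv PUnit.{u + 1}).injective (funext fun i => ?_)
  rw [AffineSpace.toSpecMvPolyIntEquiv_comp, Equiv.apply_symm_apply, Equiv.apply_symm_apply]

theorem funMap_injective {Z : Scheme.{u}} {a b : Γ(Z, ⊤)} (h : funMap a = funMap b) : a = b :=
  congrFun ((AffineSpace.toSpecMvPolyIntEquiv PUnit.{u + 1}).symm.injective h) PUnit.unit

theorem isSheafFor_singleton_fppf (Q : Scheme.{u}) : Presieve.IsSheafFor (yoneda.obj Q) (Presieve.singleton w) := by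
  rw [Presieve.isSheafFor_iff_generate]
  exact GrothendieckTopology.Subcanonical.isSheaf_of_isRepresentable (J := Scheme.fppfTopology) (yoneda.obj Q) _
    (Precoverage.generate_mem_toGrothendieck w.singleton_mem_fppfPrecoverage)

theorem appTop_injective {a b : Γ(X, ⊤)} (h : w.appTop a = w.appTop b) : a = b := by
  refine funMap_injective ((isSheafFor_singleton_fppf w _).isSeparatedFor.ext ?_)
  rintro Z _ ⟨⟩
  show w ≫ funMap a = w ≫ funMap b
  rw [comp_funMap, comp_funMap, h]

theorem exists_appTop_eq {a : Γ(Y, ⊤)} (h : (pullback.fst w w).appTop a = (pullback.snd w w).appTop a) :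
    ∃ b : Γ(X, ⊤), w.appTop b = a := by
  obtain ⟨d, hd, -⟩ := (Presieve.isSheafFor_singleton.1 (isSheafFor_singleton_fppf w
    (Spec (CommRingCat.of (MvPolynomial PUnit.{u + 1} (ULift ℤ)))))) (funMap a) fun {Z} p₁ p₂ hp => by
      obtain ⟨l, hl₁, hl₂⟩ : ∃ l, l ≫ pullback.fst w w = p₁ ∧ l ≫ pullback.snd w w = p₂ :=
        ⟨pullback.lift p₁ p₂ hp, pullback.lift_fst _ _ _, pullback.lift_snd _ _ _⟩
      show p₁ ≫ funMap a = p₂ ≫ funMap a
      rw [← hl₁, ← hl₂, comp_funMap, comp_funMap, Scheme.Hom.comp_appTop, Scheme.Hom.comp_appTop, CommRingCat.comp_apply,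
        CommRingCat.comp_apply, h]
  refine ⟨AffineSpace.toSpecMvPolyIntEquiv PUnit.{u + 1} d PUnit.unit, ?_⟩
  rw [← AffineSpace.toSpecMvPolyIntEquiv_comp]
  exact (congrFun (congrArg _ hd) _).trans (congrFun (Equiv.apply_symm_apply _ _) _)

theorem isUnit_of_appTop {b : Γ(X, ⊤)} (h : IsUnit (w.appTop b)) : IsUnit b := by
  obtain ⟨c, hc⟩ := h.exists_right_inv
  obtain ⟨d, rfl⟩ := exists_appTop_eq w (a := c) (by
    have h1 := congrArg (pullback.fst w w).appTop hc
    have h2 := congrArg (pullback.snd w w).appTop hc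
    rw [map_mul, map_one] at h1 h2
    have e : (pullback.fst w w).appTop (w.appTop b) = (pullback.snd w w).appTop (w.appTop b) := by
      rw [← CategoryTheory.comp_apply, ← CategoryTheory.comp_apply, ← Scheme.Hom.comp_appTop,
        ← Scheme.Hom.comp_appTop, pullback.condition]
    exact (IsUnit.of_mul_eq_one _ h1).mul_left_cancel (h1.trans ((e ▸ h2).symm)))
  refine IsUnit.of_mul_eq_one d (appTop_injective w ?_)
  rw [map_mul, hc, map_one]

end Fun

variable {P P' R : Pr.{u}}

theorem isIso_smulG (M : P.base.Modules) {a : Γ(P.base, ⊤)} (ha : IsUnit a) : IsIso (smulG M a) := by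
  obtain ⟨b, hb⟩ := ha.exists_right_inv
  exact ⟨smulG M b, by rw [← smulG_mul, mul_comm b, hb, smulG_one], by rw [← smulG_mul, hb, smulG_one]⟩

theorem isIso_fib_smulH (F : P ⟶ R) [IsIso (fib F)] {a : Γ(P.base, ⊤)} (ha : IsUnit a) : IsIso (fib (smulH a F)) := by
  rw [smulH_fib]
  haveI := isIso_smulG (mdl P) ha
  infer_instance

theorem isUnit_of_isIso_fib (hP : PicF.IsInvertible (mdl P)) (F : P ⟶ R) [IsIso (fib F)] {a : Γ(P.base, ⊤)}
    [IsIso (fib (smulH a F))] : IsUnit a := by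
  obtain ⟨b, hb⟩ := exists_eq_smulH hP F (smulH a F) rfl
  refine IsUnit.of_mul_eq_one b (smulH_injective hP F ?_)
  exact (smulH_smulH b a F).symm.trans (hb.symm.trans (smulH_one F).symm)

theorem eq_of_comp_eq (hP : PicF.IsInvertible (mdl P)) (hP' : PicF.IsInvertible (mdl P')) (C : P' ⟶ P)
    [IsIso (fib C)] [Flat C.base] [Surjective C.base] [LocallyOfFinitePresentation C.base] {F F' : P ⟶ R}
    [IsIso (fib F)] (hb : F'.base = F.base) (h : C ≫ F = C ≫ F') : F = F' := by
  obtain ⟨a, ha⟩ := exists_eq_smulH hP F' F hb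
  haveI := isIso_fib_comp C F
  rw [ha, comp_smulH hP] at h
  have h1 : C.base.appTop a = 1 := smulH_injective hP' (C ≫ F) (h.symm.trans (smulH_one _).symm)
  rw [ha, appTop_injective C.base (h1.trans (map_one C.base.appTop.hom).symm), smulH_one]

/-- Descent of cartesian morphisms, given one on the base. -/
theorem exists_desc_of_hom (hP : PicF.IsInvertible (mdl P)) (hP' : PicF.IsInvertible (mdl P')) (C : P' ⟶ P)
    [IsIso (fib C)] [Flat C.base] [Surjective C.base] [LocallyOfFinitePresentation C.base]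
    (G : P' ⟶ R) [IsIso (fib G)] (F₀ : P ⟶ R) [IsIso (fib F₀)] (hb : C.base ≫ F₀.base = G.base)
    (hcomp : ∀ (W : Pr.{u}) (a a' : W ⟶ P'), IsIso (fib a) → IsIso (fib a') → a ≫ C = a' ≫ C → a ≫ G = a' ≫ G) :
    ∃ F : P ⟶ R, F.base = F₀.base ∧ IsIso (fib F) ∧ C ≫ F = G := by
  haveI := isIso_fib_comp C F₀
  obtain ⟨α, hα⟩ := exists_eq_smulH hP' G (C ≫ F₀) hb.symm
  let w := C.base
  let W : Pr.{u} := ⟨pullback w w, (Scheme.Modules.pullback (pullback.fst w w)).obj (mdl P')⟩
  let a : W ⟶ P' := mkH (pullback.fst w w) (𝟙 _)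
  haveI : IsIso (fib a) := inferInstanceAs (IsIso (𝟙 _))
  haveI := isIso_fib_comp a C
  obtain ⟨a', ha'b, ha', ha'i⟩ := exists_lift C (a ≫ C) (pullback.snd w w) pullback.condition.symm
  haveI := ha'i inferInstance
  have h := hcomp W a a' inferInstance inferInstance ha'.symm
  rw [hα, comp_smulH hP', comp_smulH hP', reassoc_of% ha'] at h
  haveI := isIso_fib_comp a (C ≫ F₀)
  have hinv := smulH_injective (P := W) (PicClLib.isInvertible_pullback _ hP') (a ≫ C ≫ F₀) h
  rw [ha'b] at hinv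
  obtain ⟨β, rfl⟩ := exists_appTop_eq w hinv
  haveI : IsIso (fib (smulH (C.base.appTop β) (C ≫ F₀))) := hα ▸ ‹IsIso (fib G)›
  have hu : IsUnit β := isUnit_of_appTop w (isUnit_of_isIso_fib hP' (C ≫ F₀))
  refine ⟨smulH β F₀, rfl, isIso_fib_smulH F₀ hu, ?_⟩
  rw [comp_smulH hP, hα]

/-- Cartesian morphisms descend along fppf coverings. -/
theorem exists_desc (hP : PicF.IsInvertible (mdl P)) (hP' : PicF.IsInvertible (mdl P'))
    (hR : PicF.IsInvertible (mdl R)) (C : P' ⟶ P)
    [IsIso (fib C)] [Flat C.base] [Surjective C.base] [LocallyOfFinitePresentation C.base]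
    (G : P' ⟶ R) [IsIso (fib G)] (b : P.base ⟶ R.base) (hb : C.base ≫ b = G.base)
    (hcomp : ∀ (W : Pr.{u}) (a a' : W ⟶ P'), IsIso (fib a) → IsIso (fib a') → a ≫ C = a' ≫ C → a ≫ G = a' ≫ G) :
    ∃ F : P ⟶ R, F.base = b ∧ IsIso (fib F) ∧ C ≫ F = G := by
  have htriv : ∀ x : P.base, ∃ U : P.base.Opens, x ∈ U ∧
      Nonempty ((Scheme.Modules.pullback U.ι).obj (mdl P) ≅ (Scheme.Modules.pullback (U.ι ≫ b)).obj (mdl R)) := by
    intro x
    obtain ⟨U₁, h₁, e₁⟩ := exists_open_trivial ⟨mdl P, rfl, hP⟩ x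
    obtain ⟨U₂, h₂, e₂⟩ := exists_open_trivial (c := PicF.cl ((Scheme.Modules.pullback b).obj (mdl R)))
      ⟨_, rfl, PicClLib.isInvertible_pullback b hR⟩ x
    refine ⟨U₁ ⊓ U₂, ⟨h₁, h₂⟩, (PicGrp.cl_eq_cl_iff _ _).1 ?_⟩
    have f₁ := congrArg (PicF.pullCl (P.base.homOfLE (inf_le_left : U₁ ⊓ U₂ ≤ U₁))) e₁
    have f₂ := congrArg (PicF.pullCl (P.base.homOfLE (inf_le_right : U₁ ⊓ U₂ ≤ U₂))) e₂
    rw [PicClLib.pullCl_comp, Scheme.homOfLE_ι] at f₁ f₂
    rw [H23.PicMul.pullCl_one] at f₁ f₂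
    have f₃ := f₁.trans f₂.symm
    change PicF.cl ((Scheme.Modules.pullback (U₁ ⊓ U₂).ι).obj (mdl P)) = _ at f₃
    rw [f₃]
    show PicF.pullCl (U₁ ⊓ U₂).ι (PicF.pullCl b (PicF.cl (mdl R))) = PicF.pullCl ((U₁ ⊓ U₂).ι ≫ b) (PicF.cl (mdl R))
    rw [PicClLib.pullCl_comp]
  choose U hU e using htriv
  let Pi : P.base → Pr.{u} := fun x => ⟨(U x).toScheme, (Scheme.Modules.pullback (U x).ι).obj (mdl P)⟩
  let j : ∀ x, Pi x ⟶ P := fun x => mkH (U x).ι (𝟙 _)
  haveI : ∀ x, IsIso (fib (j x)) := fun x => inferInstanceAs (IsIso (𝟙 _))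
  haveI : ∀ x, IsOpenImmersion (j x).base := fun x => inferInstanceAs (IsOpenImmersion (U x).ι)
  let Qi : P.base → Pr.{u} := fun x => ⟨pullback C.base (U x).ι,
    (Scheme.Modules.pullback (pullback.fst C.base (U x).ι)).obj (mdl P')⟩
  let k : ∀ x, Qi x ⟶ P' := fun x => mkH (pullback.fst C.base (U x).ι) (𝟙 _)
  haveI : ∀ x, IsIso (fib (k x)) := fun x => inferInstanceAs (IsIso (𝟙 _))
  haveI : ∀ x, IsIso (fib (k x ≫ C)) := fun x => isIso_fib_comp _ _
  haveI : ∀ x, IsIso (fib (k x ≫ G)) := fun x => isIso_fib_comp _ _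
  choose Ci hCb hC hCi using fun x => exists_lift (j x) (k x ≫ C) (pullback.snd C.base (U x).ι)
    pullback.condition.symm
  haveI : ∀ x, IsIso (fib (Ci x)) := fun x => hCi x inferInstance
  haveI : ∀ x, Flat (Ci x).base := fun x => by rw [hCb]; exact inferInstanceAs (Flat (pullback.snd _ _))
  haveI : ∀ x, Surjective (Ci x).base := fun x => by rw [hCb]; exact inferInstanceAs (Surjective (pullback.snd _ _))
  haveI : ∀ x, LocallyOfFinitePresentation (Ci x).base := fun x => by
    rw [hCb]; exact inferInstanceAs (LocallyOfFinitePresentation (pullback.snd _ _))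
  have hPi : ∀ x, PicF.IsInvertible (mdl (Pi x)) := fun x => PicClLib.isInvertible_pullback _ hP
  have hQi : ∀ x, PicF.IsInvertible (mdl (Qi x)) := fun x => PicClLib.isInvertible_pullback _ hP'
  have hpiece : ∀ x, ∃ F : Pi x ⟶ R, F.base = (U x).ι ≫ b ∧ IsIso (fib F) ∧ Ci x ≫ F = k x ≫ G := by
    intro x
    obtain ⟨φ⟩ := e x
    let F₀ : Pi x ⟶ R := mkH ((U x).ι ≫ b) φ.hom
    haveI : IsIso (fib F₀) := inferInstanceAs (IsIso φ.hom)
    refine exists_desc_of_hom (hPi x) (hQi x) (Ci x) (k x ≫ G) F₀ ?_ fun W a a' ha ha' h => ?_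
    · show (Ci x).base ≫ (U x).ι ≫ b = pullback.fst C.base (U x).ι ≫ G.base
      rw [hCb, ← hb, ← Category.assoc, ← pullback.condition, Category.assoc]
    · have h' : (a ≫ k x) ≫ C = (a' ≫ k x) ≫ C := by
        rw [Category.assoc, Category.assoc, ← hC, ← Category.assoc, h, Category.assoc]
      simpa using hcomp W (a ≫ k x) (a' ≫ k x) (isIso_fib_comp _ _) (isIso_fib_comp _ _) h'
  choose F hFb hFi hF using hpiece
  haveI := hFi
  obtain ⟨F', hF'b, hF'i, hF'⟩ := exists_glue_hom j (fun x => ⟨x, by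
      show x ∈ (U x).ι.opensRange
      rw [Scheme.Opens.opensRange_ι]; exact hU x⟩) F b
    (fun x => (hFb x).symm) fun x y W a a' ha ha' h => by
    haveI := isIso_fib_comp a (F x)
    haveI := isIso_fib_comp a' (F y)
    haveI := isIso_fib_comp a (j x)
    -- pull the covering back to `W`
    let V : Pr.{u} := ⟨pullback C.base (a ≫ j x).base,
      (Scheme.Modules.pullback (pullback.snd C.base (a ≫ j x).base)).obj (mdl W)⟩
    let q : V ⟶ W := mkH (pullback.snd C.base (a ≫ j x).base) (𝟙 _)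
    haveI : IsIso (fib q) := inferInstanceAs (IsIso (𝟙 _))
    haveI : Flat q.base := inferInstanceAs (Flat (pullback.snd _ _))
    haveI : Surjective q.base := inferInstanceAs (Surjective (pullback.snd _ _))
    haveI : LocallyOfFinitePresentation q.base := inferInstanceAs (LocallyOfFinitePresentation (pullback.snd _ _))
    haveI := isIso_fib_comp q (a ≫ j x)
    obtain ⟨p, hpb, hp, hpi⟩ := exists_lift C (q ≫ a ≫ j x) (pullback.fst C.base (a ≫ j x).base) pullback.condition
    haveI := hpi inferInstance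
    have hW : PicF.IsInvertible (mdl W) := H23.PicMul.isInvertible_of_iso (asIso (fib (a ≫ j x))).symm
      (PicClLib.isInvertible_pullback _ hP)
    have key : ∀ (z : P.base) (d : W ⟶ Pi z), IsIso (fib d) → d ≫ j z = a ≫ j x → q ≫ d ≫ F z = p ≫ G := by
      intro z d hd hdz
      have e1 : (pullback.fst C.base (a ≫ j x).base) ≫ C.base = (q ≫ d).base ≫ (U z).ι := by
        refine pullback.condition.trans ?_
        show q.base ≫ (a ≫ j x).base = (q.base ≫ d.base) ≫ (U z).ι
        rw [← hdz, Category.assoc]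
        rfl
      obtain ⟨r, hrb, hr, hri⟩ := exists_lift (k z) p (pullback.lift (pullback.fst C.base (a ≫ j x).base) (q ≫ d).base e1)
        ((pullback.lift_fst _ _ _).trans hpb.symm)
      haveI := hri inferInstance
      have hrd : r ≫ Ci z = q ≫ d := by
        refine cancel (j z) ?_ ?_
        · show r.base ≫ (Ci z).base = (q ≫ d).base
          rw [hCb, hrb, pullback.lift_snd]
        · rw [Category.assoc, hC, reassoc_of% hr, hp, Category.assoc, hdz]
      rw [← Category.assoc, ← hrd, Category.assoc, hF, reassoc_of% hr]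
    refine eq_of_comp_eq hW (PicClLib.isInvertible_pullback _ hW) q ?_
      ((key x a ha rfl).trans (key y a' ha' h.symm).symm)
    show a'.base ≫ (F y).base = a.base ≫ (F x).base
    rw [hFb, hFb, ← Category.assoc, ← Category.assoc]
    exact congrArg (· ≫ b) (congrArg CoGrothendieck.Hom.base h).symm
  haveI := hF'i
  haveI := isIso_fib_comp C F'
  refine ⟨F', hF'b, hF'i, eq_of_pl_cover k (fun y => ⟨C.base y, ?_⟩) (by show C.base ≫ F'.base = _; rw [hF'b, hb])
    fun x => ?_⟩
  · obtain ⟨z, hz, -⟩ := Scheme.Pullback.exists_preimage_pullback (f := C.base) (g := (U (C.base y)).ι) y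
      ⟨C.base y, hU _⟩ rfl
    exact ⟨z, hz⟩
  · rw [← Category.assoc, ← hC, Category.assoc, hF', hF]

end Groth.Agent.ThetaLib
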