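import Groth.Agent.ThetaLib.Cart
import Groth.Agent.InvX.GenLocusPull
import Groth.Agent.SymX.OpenPull
import Groth.Agent.H23.ModLoc

/-!
# Gluing morphisms of pairs
-/

set_option autoImplicit false
set_option backward.isDefEq.respectTransparency false
set_option backward.isDefEq.respectTransparency.types false
set_option linter.style.haveILetI false
set_option maxHeartbeats 1000000

universe u

open CategoryTheory AlgebraicGeometry TopologicalSpace Pseudofunctor Bicategory Opposite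

noncomputable section

namespace Groth.Agent.ThetaLib

open Groth.Agent.AModX Groth.Agent.InvX

section Elt

variable {X Y Z : Scheme.{u}}

theorem pullbackComp_pullElt (f : X ⟶ Y) (g : Y ⟶ Z) (M : Z.Modules) {U : Z.Opens} (z : Γ(M, U)) :
    ((Scheme.Modules.pullbackComp f g).hom.app M).app ((f ≫ g) ⁻¹ᵁ U) (pullElt f (pullElt g z)) =
      pullElt (f ≫ g) z := by
  have h := unit_conjugateEquiv ((Scheme.Modules.pullbackPushforwardAdjunction g).comp
    (Scheme.Modules.pullbackPushforwardAdjunction f)) (Scheme.Modules.pullbackPushforwardAdjunction (f ≫ g))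
    (Scheme.Modules.pullbackComp f g).inv M
  rw [Scheme.Modules.conjugateEquiv_pullbackComp_inv] at h
  have h1 := congrArg (fun φ => φ.app U z) h
  -- apply the inverse comparison
  have h2 : ((Scheme.Modules.pullbackComp f g).inv.app M).app ((f ≫ g) ⁻¹ᵁ U) (pullElt (f ≫ g) z) =
      pullElt f (pullElt g z) := h1.symm
  rw [← h2]
  exact congr($((Scheme.Modules.pullbackComp f g).inv_hom_id_app M).app ((f ≫ g) ⁻¹ᵁ U) (pullElt (f ≫ g) z))

theorem map_pullElt (r : X ⟶ Y) {M N : Y.Modules} (φ : M ⟶ N) {U : Y.Opens} (e : Γ(M, U)) :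
    ((Scheme.Modules.pullback r).map φ).app (r ⁻¹ᵁ U) (pullElt r e) = pullElt r (φ.app U e) :=
  (congrArg (fun ψ => ψ.app U e) ((Scheme.Modules.pullbackPushforwardAdjunction r).unit.naturality φ)).symm

/-- A morphism out of an inverse image is determined by its values on inverse images of sections. -/
theorem hom_ext_pullElt (r : X ⟶ Y) {M : Y.Modules} {N : X.Modules} {ψ ψ' : (Scheme.Modules.pullback r).obj M ⟶ N}
    (h : ∀ (U : Y.Opens) (e : Γ(M, U)), ψ.app (r ⁻¹ᵁ U) (pullElt r e) = ψ'.app (r ⁻¹ᵁ U) (pullElt r e)) :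
    ψ = ψ' := by
  refine ((Scheme.Modules.pullbackPushforwardAdjunction r).homEquiv M N).injective ?_
  refine Scheme.Modules.hom_ext _ _ fun U => ?_
  ext e
  rw [Adjunction.homEquiv_unit, Adjunction.homEquiv_unit]
  exact h U e

theorem exists_pullHom (r : X ⟶ Y) {M : Y.Modules} {N : X.Modules} (Φ : ∀ U : Y.Opens, Γ(M, U) → Γ(N, r ⁻¹ᵁ U))
    (hadd : ∀ U a b, Φ U (a + b) = Φ U a + Φ U b)
    (hsmul : ∀ U (c : Γ(Y, U)) a, Φ U (c • a) = r.app U c • Φ U a)
    (hres : ∀ U V (h : V ≤ U) a, Φ V (res M h a) = res N (r.preimage_mono h) (Φ U a)) :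
    ∃ φ : (Scheme.Modules.pullback r).obj M ⟶ N, ∀ U e, φ.app (r ⁻¹ᵁ U) (pullElt r e) = Φ U e := by
  let ψ : M ⟶ (Scheme.Modules.pushforward r).obj N :=
    { val := PresheafOfModules.homMk
        { app := fun V => AddCommGrpCat.ofHom (AddMonoidHom.mk' (fun x : Γ(M, unop V) => Φ (unop V) x) (hadd _))
          naturality := fun V W i => by
            ext x
            exact hres _ _ i.unop.le x }
        fun V c x => hsmul (unop V) c x }
  refine ⟨((Scheme.Modules.pullbackPushforwardAdjunction r).homEquiv _ _).symm ψ, fun U e => ?_⟩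
  have h := ((Scheme.Modules.pullbackPushforwardAdjunction r).homEquiv _ _).apply_symm_apply ψ
  rw [Adjunction.homEquiv_unit] at h
  exact congrArg (fun χ => χ.app U e) h

end Elt

variable {P Q R : Pr.{u}}

/-- The inverse image of a section along a cartesian morphism. -/
def pl (F : P ⟶ Q) [IsIso (fib F)] {U : Q.base.Opens} (q : Γ(mdl Q, U)) : Γ(mdl P, F.base ⁻¹ᵁ U) :=
  (inv (fib F)).app _ (pullElt F.base q)

theorem fib_pl (F : P ⟶ Q) [IsIso (fib F)] {U : Q.base.Opens} (q : Γ(mdl Q, U)) :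
    (fib F).app _ (pl F q) = pullElt F.base q :=
  congr($(IsIso.inv_hom_id (fib F)).app _ (pullElt F.base q))

theorem pl_res (F : P ⟶ Q) [IsIso (fib F)] {U V : Q.base.Opens} (h : V ≤ U) (q : Γ(mdl Q, U)) :
    res (mdl P) (F.base.preimage_mono h) (pl F q) = pl F (res (mdl Q) h q) := by
  rw [pl, pl, ← res_pullElt F.base h q, app_res]

theorem pl_add (F : P ⟶ Q) [IsIso (fib F)] {U : Q.base.Opens} (a b : Γ(mdl Q, U)) :
    pl F (a + b) = pl F a + pl F b := by
  rw [pl, pl, pl, Groth.Agent.SymX.pullElt_add, map_add]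

theorem pl_smul (F : P ⟶ Q) [IsIso (fib F)] {U : Q.base.Opens} (c : Γ(Q.base, U)) (q : Γ(mdl Q, U)) :
    pl F (c • q) = F.base.app U c • pl F q := by
  rw [pl, pl, InvX.pullElt_smul, Scheme.Modules.Hom.app_smul]

theorem pl_comp (F : P ⟶ Q) (G : Q ⟶ R) [IsIso (fib F)] [IsIso (fib G)] [IsIso (fib (F ≫ G))] {U : R.base.Opens}
    (r : Γ(mdl R, U)) : pl (F ≫ G) r = pl F (pl G r) := by
  have hinj : Function.Injective ((fib (F ≫ G)).app ((F ≫ G).base ⁻¹ᵁ U)) :=
    ((ConcreteCategory.isIso_iff_bijective _).1 (Scheme.Modules.Hom.isIso_iff_isIso_app.1 inferInstance _)).1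
  refine hinj ((fib_pl (F ≫ G) r).trans ?_)
  show pullElt (F.base ≫ G.base) r = _
  rw [comp_fib]
  show _ = ((Scheme.Modules.pullbackComp F.base G.base).hom.app (mdl R)).app _
    (((Scheme.Modules.pullback F.base).map (fib G)).app (F.base ⁻¹ᵁ (G.base ⁻¹ᵁ U))
      ((fib F).app (F.base ⁻¹ᵁ (G.base ⁻¹ᵁ U)) (pl F (pl G r))))
  rw [fib_pl, map_pullElt, fib_pl]
  exact (pullbackComp_pullElt F.base G.base (mdl R) r).symm

theorem pl_injective (F : P ⟶ Q) [IsIso (fib F)] [IsOpenImmersion F.base] {U : Q.base.Opens}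
    (hU : U ≤ F.base.opensRange) {a b : Γ(mdl Q, U)} (h : pl F a = pl F b) : a = b := by
  have h' := congrArg ((fib F).app (F.base ⁻¹ᵁ U)) h
  rw [fib_pl, fib_pl] at h'
  exact Groth.Agent.SymX.pullElt_injective F.base (mdl Q) hU h'

theorem exists_pl_eq (F : P ⟶ Q) [IsIso (fib F)] [IsOpenImmersion F.base] {U : Q.base.Opens}
    (hU : U ≤ F.base.opensRange) (w : Γ(mdl P, F.base ⁻¹ᵁ U)) : ∃ a : Γ(mdl Q, U), pl F a = w := by
  obtain ⟨a, ha⟩ := Groth.Agent.SymX.exists_pullElt_eq F.base (mdl Q) hU ((fib F).app _ w)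
  refine ⟨a, ?_⟩
  rw [pl, ha]
  exact congr($(IsIso.hom_inv_id (fib F)).app _ w)

/-- Cartesian morphisms with the same inverse images of sections are equal. -/
theorem eq_of_pl {F G : P ⟶ R} [IsIso (fib F)] [IsIso (fib G)] (hb : F.base = G.base)
    (h : ∀ (U : R.base.Opens) (r : Γ(mdl R, U)) (h' : G.base ⁻¹ᵁ U ≤ F.base ⁻¹ᵁ U),
      res (mdl P) h' (pl F r) = pl G r) : F = G := by
  obtain ⟨b, f⟩ := F; obtain ⟨b', g⟩ := G
  dsimp only at hb
  subst hb
  let f' : mdl P ⟶ (Scheme.Modules.pullback b).obj (mdl R) := f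
  let g' : mdl P ⟶ (Scheme.Modules.pullback b).obj (mdl R) := g
  haveI : IsIso f' := ‹IsIso (fib (⟨b, f⟩ : P ⟶ R))›
  haveI : IsIso g' := ‹IsIso (fib (⟨b, g⟩ : P ⟶ R))›
  have hinv : inv f' = inv g' := hom_ext_pullElt b fun U r => by
    have := h U r le_rfl
    rw [res_self] at this
    exact this
  have : f' = g' := IsIso.inv_eq_inv.1 hinv
  exact congrArg (fun x => (⟨b, x⟩ : P ⟶ R)) this

variable {I : Type u} {Pi : I → Pr.{u}} (j : ∀ i, Pi i ⟶ P) [∀ i, IsOpenImmersion (j i).base]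
  [∀ i, IsIso (fib (j i))]

theorem eq_of_pl_cover (hcov : ∀ x : P.base, ∃ i, x ∈ (j i).base.opensRange) {F G : P ⟶ R} [IsIso (fib F)]
    [IsIso (fib G)] (hb : F.base = G.base) (h : ∀ i, j i ≫ F = j i ≫ G) : F = G := by
  refine eq_of_pl hb fun U r h' => eq_of_locally _ _ fun x hx => ?_
  obtain ⟨i, hi⟩ := hcov x
  refine ⟨(G.base ⁻¹ᵁ U) ⊓ (j i).base.opensRange, inf_le_left, ⟨hx, hi⟩, ?_⟩
  rw [res_res]
  refine pl_injective (j i) inf_le_right ?_
  rw [← pl_res (j i) (inf_le_left.trans h'), ← pl_res (j i) inf_le_left]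
  haveI := isIso_fib_comp (j i) F
  haveI := isIso_fib_comp (j i) G
  rw [← pl_comp, ← pl_comp]
  have key : ∀ (A B : Pi i ⟶ R) [IsIso (fib A)] [IsIso (fib B)] (_ : A = B) (V : (Pi i).base.Opens)
      (hA : V ≤ A.base ⁻¹ᵁ U) (hB : V ≤ B.base ⁻¹ᵁ U),
      res (mdl (Pi i)) hA (pl A r) = res (mdl (Pi i)) hB (pl B r) := by
    rintro A B _ _ rfl V hA hB
    rfl
  exact key _ _ (h i) _ _ _

/-- Cartesian morphisms glue. -/
theorem exists_glue_hom (hcov : ∀ x : P.base, ∃ i, x ∈ (j i).base.opensRange) (G : ∀ i, Pi i ⟶ R)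
    [∀ i, IsIso (fib (G i))] (b : P.base ⟶ R.base) (hb : ∀ i, (j i).base ≫ b = (G i).base)
    (hcomp : ∀ i k (W : Pr.{u}) (a : W ⟶ Pi i) (a' : W ⟶ Pi k), IsIso (fib a) → IsIso (fib a') →
      a ≫ j i = a' ≫ j k → a ≫ G i = a' ≫ G k) :
    ∃ F : P ⟶ R, F.base = b ∧ IsIso (fib F) ∧ ∀ i, j i ≫ F = G i := by
  let N := mdl P
  let M := mdl R
  let V : I → P.base.Opens := fun i => (j i).base.opensRange
  have hpre : ∀ i (U : R.base.Opens), (j i).base ⁻¹ᵁ (b ⁻¹ᵁ U ⊓ V i) ≤ (G i).base ⁻¹ᵁ U := fun i U z hz => by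
    rw [← hb i]; exact hz.1
  have hpre' : ∀ i (U : R.base.Opens), (G i).base ⁻¹ᵁ U ≤ (j i).base ⁻¹ᵁ (b ⁻¹ᵁ U ⊓ V i) := fun i U z hz => by
    rw [← hb i] at hz; exact ⟨hz, z, rfl⟩
  choose z hz using fun i (U : R.base.Opens) (r : Γ(M, U)) =>
    exists_pl_eq (j i) (inf_le_right : b ⁻¹ᵁ U ⊓ V i ≤ V i) (res (mdl (Pi i)) (hpre i U) (pl (G i) r))
  have hcompat : ∀ (U : R.base.Opens) (r : Γ(M, U)) i k,
      res N (inf_le_left : (b ⁻¹ᵁ U ⊓ V i) ⊓ (b ⁻¹ᵁ U ⊓ V k) ≤ _) (z i U r) =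
        res N (inf_le_right : (b ⁻¹ᵁ U ⊓ V i) ⊓ (b ⁻¹ᵁ U ⊓ V k) ≤ _) (z k U r) := by
    intro U r i k
    let O := (b ⁻¹ᵁ U ⊓ V i) ⊓ (b ⁻¹ᵁ U ⊓ V k)
    let W : Pr.{u} := ⟨O.toScheme, (Scheme.Modules.pullback O.ι).obj N⟩
    let c : W ⟶ P := mkH O.ι (𝟙 _)
    haveI : IsIso (fib c) := inferInstanceAs (IsIso (𝟙 _))
    haveI : IsOpenImmersion c.base := inferInstanceAs (IsOpenImmersion O.ι)
    have hr : ∀ l, O ≤ V l → Set.range O.ι ⊆ Set.range (j l).base := fun l hl => by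
      rw [Scheme.Opens.range_ι]; exact hl
    obtain ⟨a, -, ha, hai⟩ := exists_lift (j i) c
      (IsOpenImmersion.lift (j i).base O.ι (hr i (inf_le_left.trans inf_le_right))) (IsOpenImmersion.lift_fac _ _ _)
    obtain ⟨a', -, ha', hai'⟩ := exists_lift (j k) c
      (IsOpenImmersion.lift (j k).base O.ι (hr k (inf_le_right.trans inf_le_right))) (IsOpenImmersion.lift_fac _ _ _)
    haveI := hai inferInstance
    haveI := hai' inferInstance
    refine pl_injective c (show O ≤ O.ι.opensRange by rw [Scheme.Opens.opensRange_ι]) ?_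
    haveI := isIso_fib_comp a (j i)
    haveI := isIso_fib_comp a' (j k)
    haveI := isIso_fib_comp a (G i)
    haveI := isIso_fib_comp a' (G k)
    have key : ∀ (A B : W ⟶ P) [IsIso (fib A)] [IsIso (fib B)] (_ : A = B) (O' : P.base.Opens) (q : Γ(N, O'))
        (T : W.base.Opens) (hA : T ≤ A.base ⁻¹ᵁ O') (hB : T ≤ B.base ⁻¹ᵁ O'),
        res (mdl W) hA (pl A q) = res (mdl W) hB (pl B q) := by
      rintro A B _ _ rfl O' q T hA hB
      rfl
    have key' : ∀ (A B : W ⟶ R) [IsIso (fib A)] [IsIso (fib B)] (_ : A = B)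
        (T : W.base.Opens) (hA : T ≤ A.base ⁻¹ᵁ U) (hB : T ≤ B.base ⁻¹ᵁ U),
        res (mdl W) hA (pl A r) = res (mdl W) hB (pl B r) := by
      rintro A B _ _ rfl T hA hB
      rfl
    have e₁ : ∀ (l : I) (d : W ⟶ Pi l) [IsIso (fib d)] [IsIso (fib (d ≫ j l))] [IsIso (fib (d ≫ G l))]
        (hd : d ≫ j l = c) (hle : O ≤ b ⁻¹ᵁ U ⊓ V l) (T : W.base.Opens) (hT : T ≤ c.base ⁻¹ᵁ O)
        (hT' : T ≤ (d ≫ G l).base ⁻¹ᵁ U),
        res (mdl W) hT (pl c (res N hle (z l U r))) = res (mdl W) hT' (pl (d ≫ G l) r) := by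
      intro l d _ _ _ hd hle T hT hT'
      rw [← pl_res, res_res]
      have hT'' : T ≤ (d ≫ j l).base ⁻¹ᵁ (b ⁻¹ᵁ U ⊓ V l) := by
        rw [hd]; exact hT.trans (c.base.preimage_mono hle)
      rw [← key (d ≫ j l) c hd _ (z l U r) T hT'' _, pl_comp, hz l U r, ← pl_res d (hpre l U), pl_comp]
      exact res_res (M := mdl W) _ _ _
    have hT : (c.base ⁻¹ᵁ O) ≤ (a ≫ G i).base ⁻¹ᵁ U := fun w hw => by
      have hw' : b ((c.base) w) ∈ U := (hw.1).1
      rw [← ha] at hw'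
      show (G i).base (a.base w) ∈ U
      rw [← hb i]
      exact hw'
    have hTk : (c.base ⁻¹ᵁ O) ≤ (a' ≫ G k).base ⁻¹ᵁ U := fun w hw => by
      have hw' : b ((c.base) w) ∈ U := (hw.1).1
      rw [← ha'] at hw'
      show (G k).base (a'.base w) ∈ U
      rw [← hb k]
      exact hw'
    have h1 := e₁ i a ha inf_le_left _ le_rfl hT
    have h2 := e₁ k a' ha' inf_le_right _ le_rfl hTk
    rw [res_self] at h1 h2
    rw [h1, h2]
    exact key' _ _ (hcomp i k W a a' inferInstance inferInstance (ha.trans ha'.symm)) _ _ _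
  choose Φ hΦ hΦu using fun (U : R.base.Opens) (r : Γ(M, U)) =>
    existsUnique_glue (M := N) (V := b ⁻¹ᵁ U) (fun i => b ⁻¹ᵁ U ⊓ V i) (fun _ => inf_le_left)
      (fun x hx => by obtain ⟨i, hi⟩ := hcov x; exact ⟨i, hx, hi⟩) (fun i => z i U r) (hcompat U r)
  have hadd : ∀ U a c, Φ U (a + c) = Φ U a + Φ U c := fun U a c => (hΦu U (a + c) _ fun i => by
    rw [map_add, hΦ, hΦ]
    refine pl_injective (j i) inf_le_right ?_
    rw [pl_add, hz, hz, hz, pl_add, map_add]).symm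
  have hsmul : ∀ U (c : Γ(R.base, U)) a, Φ U (c • a) = b.app U c • Φ U a := fun U c a => (hΦu U (c • a) _ fun i => by
    rw [res_smul, hΦ]
    refine pl_injective (j i) inf_le_right ?_
    rw [pl_smul, hz, hz, pl_smul, res_smul]
    congr 1
    have key : ∀ (g : (Pi i).base ⟶ R.base) (hg : (j i).base ≫ b = g) (T : (Pi i).base.Opens)
        (h₁ : T ≤ g ⁻¹ᵁ U) (W : P.base.Opens) (h₂ : W ≤ b ⁻¹ᵁ U) (h₃ : T ≤ (j i).base ⁻¹ᵁ W),
        resR h₃ ((j i).base.app W (resR h₂ (b.app U c))) = resR h₁ (g.app U c) := by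
      rintro _ rfl T h₁ W h₂ h₃
      rw [Scheme.Hom.comp_app]
      show resR h₃ ((j i).base.app W (resR h₂ (b.app U c))) = resR h₁ ((j i).base.app (b ⁻¹ᵁ U) (b.app U c))
      have := congrArg (fun φ => φ (b.app U c)) (congrArg CommRingCat.Hom.hom ((j i).base.naturality (homOfLE h₂).op))
      rw [show (j i).base.app W (resR h₂ (b.app U c)) = resR ((j i).base.preimage_mono h₂) ((j i).base.app _ (b.app U c)) from this,
        resR_resR]
      rfl
    have h := key _ (hb i) _ (hpre i U) _ (inf_le_left : b ⁻¹ᵁ U ⊓ V i ≤ _) le_rfl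
    rwa [resR_self] at h).symm
  have hres : ∀ U U' (h : U' ≤ U) a, Φ U' (res M h a) = res N (b.preimage_mono h) (Φ U a) :=
    fun U U' h a => (hΦu U' (res M h a) _ fun i => by
      rw [res_res, ← res_res (inf_le_left : b ⁻¹ᵁ U ⊓ V i ≤ b ⁻¹ᵁ U) (inf_le_inf_right (V i) (b.preimage_mono h)),
        hΦ]
      refine pl_injective (j i) inf_le_right ?_
      rw [← pl_res, hz, hz, res_res, ← pl_res, res_res]).symm
  obtain ⟨φ, hφ⟩ := exists_pullHom b Φ hadd hsmul hres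
  -- on each chart
  let C : (⟨P.base, (Scheme.Modules.pullback b).obj M⟩ : Pr.{u}) ⟶ R := mkH b (𝟙 _)
  haveI : IsIso (fib C) := inferInstanceAs (IsIso (𝟙 _))
  haveI : ∀ i, IsIso ((Scheme.Modules.pullback (j i).base).map φ) := by
    intro i
    obtain ⟨Fi, hFb, hFC, hFi⟩ := exists_lift C (G i) (j i).base (hb i)
    haveI := hFi inferInstance
    obtain ⟨bb, f⟩ := Fi
    dsimp only at hFb
    subst hFb
    let f' : mdl (Pi i) ⟶ (Scheme.Modules.pullback (j i).base).obj ((Scheme.Modules.pullback b).obj M) := f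
    haveI : IsIso f' := ‹IsIso (fib (⟨(j i).base, f⟩ : Pi i ⟶ (⟨P.base, (Scheme.Modules.pullback b).obj M⟩ : Pr.{u})))›
    have h : (Scheme.Modules.pullback (j i).base).map φ = inv f' ≫ fib (j i) := by
      refine hom_ext_pullElt (j i).base fun V' e => ?_
      have hh : ((Scheme.Modules.pullbackPushforwardAdjunction (j i).base).homEquiv _ _
          ((Scheme.Modules.pullback (j i).base).map φ)) =
          ((Scheme.Modules.pullbackPushforwardAdjunction (j i).base).homEquiv _ _ (inv f' ≫ fib (j i))) := by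
        refine hom_ext_pullElt b fun U r => ?_
        rw [Adjunction.homEquiv_unit, Adjunction.homEquiv_unit]
        show ((Scheme.Modules.pullback (j i).base).map φ).app _ (pullElt (j i).base (pullElt b r)) =
          (inv f' ≫ fib (j i)).app _ (pullElt (j i).base (pullElt b r))
        rw [map_pullElt, hφ]
        show _ = (fib (j i)).app _ (pl (⟨(j i).base, f⟩ : Pi i ⟶ (⟨P.base, (Scheme.Modules.pullback b).obj M⟩ : Pr.{u})) (pullElt b r))
        have e1 : pullElt b r = pl C r := by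
          refine (fib_pl C r).symm.trans ?_
          rfl
        haveI := isIso_fib_comp (⟨(j i).base, f⟩ : Pi i ⟶ (⟨P.base, (Scheme.Modules.pullback b).obj M⟩ : Pr.{u})) C
        rw [e1, ← pl_comp]
        have key : ∀ (A : Pi i ⟶ R) [IsIso (fib A)] (_ : A = G i) (T : (Pi i).base.Opens) (h₁ : T ≤ A.base ⁻¹ᵁ U)
            (h₂ : T ≤ (G i).base ⁻¹ᵁ U), res (mdl (Pi i)) h₁ (pl A r) = res (mdl (Pi i)) h₂ (pl (G i) r) := by
          rintro A _ rfl T h₁ h₂
          rfl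
        refine eq_of_locally _ _ fun q hq => ⟨(j i).base ⁻¹ᵁ (b ⁻¹ᵁ U ⊓ V i), fun w hw => hw.1, ⟨hq, q, rfl⟩, ?_⟩
        rw [res_pullElt _ (inf_le_left : b ⁻¹ᵁ U ⊓ V i ≤ b ⁻¹ᵁ U), hΦ, ← fib_pl, hz, ← app_res]
        exact congrArg _ (key _ hFC _ _ (hpre i U)).symm
      exact congrArg (fun ψ => ψ.app V' e) hh
    rw [h]
    infer_instance
  haveI : IsIso φ := by
    refine H23.ModLoc.isIso_of_locally φ fun x => ?_
    obtain ⟨i, hi⟩ := hcov x
    refine ⟨V i, hi, Scheme.Modules.Hom.isIso_iff_isIso_app.2 fun O => (ConcreteCategory.isIso_iff_bijective _).2 ?_⟩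
    let O' := (V i).ι ''ᵁ O
    have hO : O' ≤ (j i).base.opensRange := by
      rintro _ ⟨w, -, rfl⟩; exact w.2
    show Function.Bijective (φ.app O')
    have hb' : Function.Bijective (((Scheme.Modules.pullback (j i).base).map φ).app ((j i).base ⁻¹ᵁ O')) :=
      (ConcreteCategory.isIso_iff_bijective _).1 (Scheme.Modules.Hom.isIso_iff_isIso_app.1 inferInstance _)
    refine ⟨fun a a' h => Groth.Agent.SymX.pullElt_injective (j i).base _ hO (hb'.1 ?_), fun w => ?_⟩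
    · rw [map_pullElt, map_pullElt, h]
    · obtain ⟨v, hv⟩ := hb'.2 (pullElt (j i).base w)
      obtain ⟨a, rfl⟩ := Groth.Agent.SymX.exists_pullElt_eq (j i).base _ hO v
      rw [map_pullElt] at hv
      exact ⟨a, Groth.Agent.SymX.pullElt_injective (j i).base _ hO hv⟩
  let F : P ⟶ R := mkH b (inv φ)
  haveI : IsIso (fib F) := inferInstanceAs (IsIso (inv φ))
  refine ⟨F, rfl, inferInstance, fun i => ?_⟩
  haveI := isIso_fib_comp (j i) F
  refine eq_of_pl (hb i) fun U r h' => ?_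
  have e1 : pl F r = Φ U r := by
    show (inv (inv φ)).app _ (pullElt b r) = _
    rw [IsIso.inv_inv, hφ]
  rw [pl_comp, e1]
  refine eq_of_locally _ _ fun q hq => ⟨(j i).base ⁻¹ᵁ (b ⁻¹ᵁ U ⊓ V i) ⊓ (G i).base ⁻¹ᵁ U, inf_le_right,
    ⟨⟨h' hq, q, rfl⟩, hq⟩, ?_⟩
  have h2 := hz i U r
  rw [← hΦ, ← pl_res] at h2
  have h3 := congrArg (res (mdl (Pi i))
    (inf_le_left : (j i).base ⁻¹ᵁ (b ⁻¹ᵁ U ⊓ V i) ⊓ (G i).base ⁻¹ᵁ U ≤ _)) h2
  rw [res_res, res_res] at h3
  refine Eq.trans ?_ h3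
  exact res_res (M := mdl (Pi i)) _ _ _

end Groth.Agent.ThetaLib
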