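import Groth.Agent.ThetaLib.Scalar

/-!
# Points of the theta group and inverse images along homomorphisms
-/

set_option autoImplicit false
set_option backward.isDefEq.respectTransparency false
set_option backward.isDefEq.respectTransparency.types false
set_option linter.style.haveILetI false
set_option maxHeartbeats 1000000

universe u

open CategoryTheory CategoryTheory.Limits MonoidalCategory CartesianMonoidalCategory MonObj AlgebraicGeometry
open Pseudofunctor Bicategory
open scoped commutatorElement

noncomputable section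

namespace Groth.Agent.ThetaLib

open ThetaGrp

variable {S : Scheme.{u}} {A B : Over S} (f : A ⟶ B) (L : B.left.Modules)

/-- The inverse image of the pair. -/
def pullBase : basePr A ((Scheme.Modules.pullback f.left).obj L) ⟶ basePr B L := mkH f.left (𝟙 _)

instance : IsIso (fib (pullBase f L)) := inferInstanceAs (IsIso (𝟙 _))

theorem exists_pullObj (T : Over S) :
    ∃ F : thetaObj A ((Scheme.Modules.pullback f.left).obj L) T ⟶ thetaObj B L T,
      F.base = (f ▷ T).left ∧ F ≫ proj B L T = proj A _ T ≫ pullBase f L ∧ IsIso (fib F) := by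
  haveI : IsIso (fib (proj A ((Scheme.Modules.pullback f.left).obj L) T ≫ pullBase f L)) := isIso_fib_comp _ _
  obtain ⟨F, h1, h2, h3⟩ := exists_lift (proj B L T)
    (proj A ((Scheme.Modules.pullback f.left).obj L) T ≫ pullBase f L) (f ▷ T).left
    (show (f ▷ T).left ≫ (fst B T).left = (fst A T).left ≫ f.left by
      rw [← Over.comp_left, ← Over.comp_left, whiskerRight_fst])
  exact ⟨F, h1, h2, h3 inferInstance⟩

/-- The canonical morphism of pairs over `f ▷ T`. -/
def pullObj (T : Over S) : thetaObj A ((Scheme.Modules.pullback f.left).obj L) T ⟶ thetaObj B L T :=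
  (exists_pullObj f L T).choose

theorem pullObj_base (T : Over S) : (pullObj f L T).base = (f ▷ T).left := (exists_pullObj f L T).choose_spec.1

instance (T : Over S) : IsIso (fib (pullObj f L T)) := (exists_pullObj f L T).choose_spec.2.2

theorem pullObj_proj (T : Over S) : pullObj f L T ≫ proj B L T = proj A _ T ≫ pullBase f L :=
  (exists_pullObj f L T).choose_spec.2.1

variable [GrpObj A] [GrpObj B] {f L} {T : Over S}

/-- `β` is the inverse image of `u`. -/
def IsPull (β : thetaPts A ((Scheme.Modules.pullback f.left).obj L) T) (u : thetaPts B L T) : Prop :=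
  β.1.hom ≫ pullObj f L T = pullObj f L T ≫ u.1.hom

theorem isPull_mul {β β' : thetaPts A ((Scheme.Modules.pullback f.left).obj L) T} {u u' : thetaPts B L T}
    (h : IsPull β u) (h' : IsPull β' u') : IsPull (β * β') (u * u') := by
  show (β'.1.hom ≫ β.1.hom) ≫ pullObj f L T = pullObj f L T ≫ u'.1.hom ≫ u.1.hom
  rw [Category.assoc, h, reassoc_of% h']

theorem isPull_inv {β : thetaPts A ((Scheme.Modules.pullback f.left).obj L) T} {u : thetaPts B L T}
    (h : IsPull β u) : IsPull β⁻¹ u⁻¹ := by
  show β.1.inv ≫ pullObj f L T = pullObj f L T ≫ u.1.inv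
  rw [Iso.eq_comp_inv, Category.assoc, ← h, Iso.inv_hom_id_assoc]

variable [IsMonHom f]

theorem whiskerRight_transl (x : T ⟶ A) : transl A x ≫ (f ▷ T) = (f ▷ T) ≫ transl B (x ≫ f) := by
  apply CartesianMonoidalCategory.hom_ext
  · simp [transl, MonObj.mul_comp, MonObj.comp_mul]
  · simp [transl]

theorem exists_isPull (u : thetaPts B L T) (x : T ⟶ A) (hx : IsOverPt u (x ≫ f)) :
    ∃ β : thetaPts A ((Scheme.Modules.pullback f.left).obj L) T, IsOverPt β x ∧ IsPull β u := by
  haveI := isIso_fib_of_iso u.1
  haveI := isIso_fib_comp u.1.hom (proj B L T)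
  haveI := isIso_fib_comp (pullObj f L T) (u.1.hom ≫ proj B L T)
  have hb : (transl A x ≫ fst A T).left ≫ (pullBase f L).base =
      (pullObj f L T ≫ u.1.hom ≫ proj B L T).base := by
    show _ ≫ f.left = (pullObj f L T).base ≫ u.1.hom.base ≫ (fst B T).left
    rw [pullObj_base, hx, ← Over.comp_left, ← Over.comp_left, ← Over.comp_left,
      ← reassoc_of% (whiskerRight_transl x), whiskerRight_fst, Category.assoc]
  obtain ⟨G, hG, hGQ, hGi⟩ := exists_lift (P := thetaObj A ((Scheme.Modules.pullback f.left).obj L) T)
    (pullBase f L) (pullObj f L T ≫ u.1.hom ≫ proj B L T) (transl A x ≫ fst A T).left hb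
  haveI := hGi inferInstance
  obtain ⟨β, hβ, hβG⟩ := exists_of_hom x G hG
  refine ⟨β, hβ, cancel (proj B L T) ?_ ?_⟩
  · show β.1.hom.base ≫ (pullObj f L T).base = (pullObj f L T).base ≫ u.1.hom.base
    rw [pullObj_base, hβ, hx, ← Over.comp_left, ← Over.comp_left, whiskerRight_transl]
  · rw [Category.assoc, pullObj_proj, ← Category.assoc, hβG, hGQ, Category.assoc]

theorem isScal_of_isPull (hL : PicF.IsInvertible L) (hA : GammaSnd A)
    {β : thetaPts A ((Scheme.Modules.pullback f.left).obj L) T} {u : thetaPts B L T}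
    (hβ : IsOverPt β 1) (h : IsPull β u) {c : Γ(T.left, ⊤)} (hc : IsScal u c) : IsScal β c := by
  have hL' := PicClLib.isInvertible_pullback f.left hL
  obtain ⟨a, ha⟩ := exists_isScal hL' hA β hβ
  have h' := h
  unfold IsPull at h'
  rw [ha, hc, smulH_comp, Category.id_comp, comp_smulH (PicClLib.isInvertible_pullback _ hL),
    Category.comp_id] at h'
  have h1 := smulH_injective (PicClLib.isInvertible_pullback _ hL') (pullObj f L T) h'
  rw [pullObj_base] at h1
  have h2 : (f ▷ T).left.appTop ((snd B T).left.appTop c) = (snd A T).left.appTop c := by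
    rw [← CategoryTheory.comp_apply, ← Scheme.Hom.comp_appTop, ← Over.comp_left, whiskerRight_snd]
  exact (hA T).1 (h1.trans h2) ▸ ha

end Groth.Agent.ThetaLib
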